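import Cfsg.Agent.Lib.Char.Stem.Mult

/-!
The cyclic order of the classes of primitive idempotents at one character, read on valuations: when
every singular element has order `p` and the character is real on the regular elements, the
antipode fixes at most two of these classes.
-/

set_option autoImplicit false
set_option linter.unusedSectionVars false

namespace Cfsg.Agent.Char.Stem

open Cfsg Cfsg.Agent.Block Cfsg.Agent.Char.Spec Cfsg.Agent.Char.BP Cfsg.Agent.Char.Res
  Cfsg.Agent.Char.Corner Cfsg.Agent.Char.Decomp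

universe u

variable {G : Type u} [Group G] [Fintype G] [DecidableEq G] {p : ℕ} {M : Ideal AlgInt} [hp : Fact p.Prime]

/-! ### The antipode -/

/-- The antipode of the group algebra. -/
noncomputable def anti (a : MonoidAlgebra ℂ G) : MonoidAlgebra ℂ G := ∑ g : G, a.coeff g • sgl g⁻¹

theorem anti_coeff (a : MonoidAlgebra ℂ G) (g : G) : (anti a).coeff g = a.coeff g⁻¹ := by
  rw [anti, MonoidAlgebra.coeff_sum, Finsupp.coe_finsetSum, Finset.sum_apply, Finset.sum_eq_single g⁻¹]
  · simp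
  · intro b _ hb
    have : b⁻¹ ≠ g := fun h => hb (by rw [← h, inv_inv])
    simp [this]
  · simp

theorem anti_add (a b : MonoidAlgebra ℂ G) : anti (a + b) = anti a + anti b := by
  ext g
  simp [anti_coeff]

theorem anti_smul (c : ℂ) (a : MonoidAlgebra ℂ G) : anti (c • a) = c • anti a := by
  ext g
  simp [anti_coeff]

theorem anti_zero : anti (0 : MonoidAlgebra ℂ G) = 0 := by
  ext g
  simp [anti_coeff]

theorem anti_anti (a : MonoidAlgebra ℂ G) : anti (anti a) = a := by
  ext g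
  simp [anti_coeff]

theorem anti_mul (a b : MonoidAlgebra ℂ G) : anti (a * b) = anti b * anti a := by
  ext g
  rw [anti_coeff, coeff_mul_apply, coeff_mul_apply]
  refine Fintype.sum_equiv (Equiv.mulRight g) _ _ fun h => ?_
  rw [anti_coeff, anti_coeff, Equiv.coe_mulRight,
    show (g * (h * g)⁻¹)⁻¹ = h by group, show (h * g)⁻¹ = g⁻¹ * h⁻¹ by group]
  ring

theorem anti_sgl (g : G) : anti (sgl g : MonoidAlgebra ℂ G) = sgl g⁻¹ := by
  classical
  ext h
  rw [anti_coeff, MonoidAlgebra.coeff_single, MonoidAlgebra.coeff_single, Finsupp.single_apply,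
    Finsupp.single_apply]
  exact if_congr ⟨fun e => by rw [e, inv_inv], fun e => by rw [← e, inv_inv]⟩ rfl rfl

theorem AlgRing.anti {a : MonoidAlgebra ℂ G} (ha : AlgRing M a) : AlgRing M (Stem.anti a) := fun g => by
  rw [anti_coeff]
  exact ha _

theorem anti_pr (hM : IsPModular p M) {e : MonoidAlgebra ℂ G} (he : Pr M e) : Pr M (anti e) := by
  refine ⟨⟨Res.fx_bot (AlgRing.anti he.ring), by rw [← anti_mul, he.idem], fun q hq hqq h1 h2 => ?_⟩,
    fun h => he.2 (by rw [← anti_anti e, h, anti_zero])⟩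
  rcases he.1.2.2 (anti q) (Res.fx_bot (AlgRing.anti hq.1)) (by rw [← anti_mul, hqq])
    (by conv_lhs => rw [← anti_anti e, ← anti_mul, h2])
    (by conv_lhs => rw [← anti_anti e, ← anti_mul, h1]) with h | h
  · exact Or.inl (by rw [← anti_anti q, h, anti_zero])
  · exact Or.inr (by rw [← anti_anti q, h])

theorem anti_eqv {e f : MonoidAlgebra ℂ G} (h : Eqv M e f) : Eqv M (anti e) (anti f) := by
  obtain ⟨u, v, hu, hv, he⟩ := h
  refine ⟨anti v, anti u, AlgRing.anti hv, AlgRing.anti hu, ?_⟩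
  conv_lhs => rw [he]
  simp only [anti_mul, mul_assoc]

theorem ev_anti (f : G → ℂ) (a : MonoidAlgebra ℂ G) :
    ev f (anti a) = ∑ g : G, a.coeff g * f g⁻¹ := by
  rw [ev]
  exact Fintype.sum_equiv (Equiv.inv G) _ _ fun g => by simp [anti_coeff]

theorem Near.anti {k : ℕ} {a b : MonoidAlgebra ℂ G} (h : Near M p k a b) :
    Near M p k (Stem.anti a) (Stem.anti b) := by
  obtain ⟨z, hz, rfl⟩ := h
  exact ⟨Stem.anti z, AlgRing.anti hz, by rw [anti_add, anti_smul]⟩

/-! ### Roots of unity for the residues -/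

theorem exists_root (hM : IsPModular p M) {z : ℂ} (hz : MemLocalRing M z) :
    ∃ (m : ℕ) (ε : ℂ), ¬ p ∣ m ∧ (ε = 0 ∨ ε ^ m = 1) ∧ MemLocalIdeal M (z - ε) := by
  by_cases hI : MemLocalIdeal M z
  · exact ⟨1, 0, hp.out.not_dvd_one, Or.inl rfl, by simpa using hI⟩
  obtain ⟨a, b, hb, rfl⟩ := hz
  have ha : a ∉ M := fun h => hI (by
    rw [div_eq_mul_inv]
    exact ideal_mul_right hM ((ideal_coe_iff hM a).2 h)
      (ring_inv hM (ring_coe hM b) fun h' => hb ((ideal_coe_iff hM b).1 h')))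
  obtain ⟨εa, ⟨ma, hma, hea⟩, hda⟩ := exists_root_lift hM ha
  obtain ⟨εb, ⟨mb, hmb, heb⟩, hdb⟩ := exists_root_lift hM hb
  refine ⟨ma * mb, (εa : ℂ) / (εb : ℂ), fun h => (hp.out.dvd_mul.1 h).elim hma hmb, Or.inr ?_, ?_⟩
  · rw [div_pow, pow_mul, hea, one_pow, mul_comm ma, pow_mul, heb, one_pow, div_one]
  · have hbI : ¬ MemLocalIdeal M (εb : ℂ) := fun h =>
      hb (by simpa using M.add_mem hdb ((ideal_coe_iff hM εb).1 h))
    have hbne : (b : ℂ) ≠ 0 := pmod_coe_ne_zero hb
    have hεne : (εb : ℂ) ≠ 0 := fun h => hbI (h ▸ ideal_zero hM)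
    have h1 := (ideal_coe_iff hM _).2 (M.sub_mem (M.mul_mem_left εb hda) (M.mul_mem_left εa hdb))
    have hbu : ¬ MemLocalIdeal M ((b : ℂ) * (εb : ℂ)) :=
      ideal_notMem_mul hM (ring_coe hM b) (ring_coe hM εb)
        (fun h' => hb ((ideal_coe_iff hM b).1 h')) hbI
    rw [show (a : ℂ) / b - (εa : ℂ) / εb =
      ((εb * (a - εa) - εa * (b - εb) : AlgInt) : ℂ) * ((b : ℂ) * εb)⁻¹ by
        push_cast; field_simp; ring]
    exact ideal_mul_right hM h1 (ring_inv hM (ring_mul hM (ring_coe hM b) (ring_coe hM εb)) hbu)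

variable {S : Sys p M} {χ : IrrCharacter G} {π : ℂ} {n : ℕ}
  {Φ : MonoidAlgebra ℂ G →ₐ[ℂ] Matrix (Fin n) (Fin n) ℂ}

theorem Unif.dv_of_σ (U : Unif S χ π) (hc : Nat.card G ∣ p * S.N) (j : (ZMod p)ˣ) :
    ∀ (k : ℕ) {y : ℂ}, Rat S χ y → Dv M π k (S.σ j y) → Dv M π k y
  | 0, y, hy, _ => ⟨y, Sys.Un.ring S hy.1, by simp⟩
  | k + 1, y, hy, h => by
    have hI : MemLocalIdeal M y := (S.σ_unit j hy.1).1 ((h.mono S.hM U.ring (by omega)).ideal S.hM U.mem)
    obtain ⟨y', hy', rfl⟩ := U.dv_one hy hI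
    obtain ⟨u, hu, huu, hue⟩ := U.σ hc j
    rw [map_mul, hue, mul_assoc] at h
    have h1 := (dv_cancel U h).ring_mul_left S.hM (ring_inv S.hM (Sys.Un.ring S hu) huu)
    rw [inv_mul_cancel_left₀ (S.ne_zero_of_unit huu)] at h1
    obtain ⟨z, hz, e⟩ := Unif.dv_of_σ U hc j k hy' h1
    exact ⟨z, hz, by rw [e]; ring⟩

open Classical in
/-- The hypotheses of the triangle. -/
structure Tri (S : Sys p M) (χ : IrrCharacter G) (π : ℂ) (n : ℕ)
    (Φ : MonoidAlgebra ℂ G →ₐ[ℂ] Matrix (Fin n) (Fin n) ℂ) (j₀ : (ZMod p)ˣ)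
    (e x : Fin 3 → MonoidAlgebra ℂ G) : Prop where
  frame : ∀ i, Frame S χ π n Φ (e i) (x i)
  ne : ∀ i j, i ≠ j → ¬ Eqv M (e i) (e j)
  star : ∀ i, Eqv M (anti (e i)) (e i)
  value : ∀ i, ev (χ : G → ℂ) (e i) = 1
  one : ∀ i a, Φ (e i * a * e i) = ev (χ : G → ℂ) (e i * a) • Φ (e i)
  real : ∀ g : G, (χ : G → ℂ) g⁻¹ = S.σ j₀ ((χ : G → ℂ) g)

variable {j₀ : (ZMod p)ˣ} {e x : Fin 3 → MonoidAlgebra ℂ G}

/-- Linear extension of divisibility. -/
theorem dv_linear (hM : IsPModular p M) {k : ℕ} (L : MonoidAlgebra ℂ G → ℂ)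
    (hadd : ∀ (c : G → ℂ), L (∑ g, c g • sgl g) = ∑ g, c g * L (sgl g)) (h : ∀ g, Dv M π k (L (sgl g)))
    {a : MonoidAlgebra ℂ G} (ha : AlgRing M a) : Dv M π k (L a) := by
  rw [← sum_single a, hadd]
  exact Dv.sum hM fun g _ => (h g).ring_mul_left hM (ha g)

variable (T : Tri S χ π n Φ j₀ e x)
include T

theorem Tri.hM : IsPModular p M := S.hM

theorem Tri.unif : Unif S χ π := (T.frame 0).unif

theorem Tri.aff : Afford χ n Φ := (T.frame 0).aff

theorem Tri.pair_rat (i j : Fin 3) (g h : G) :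
    Rat S χ (ev (χ : G → ℂ) (x i * sgl g * x j * sgl h)) :=
  RatA.ev (T.frame 0).cfg.dvd ((((RatA.of_co (T.frame i).co).mul (RatA.sgl g)).mul
    (RatA.of_co (T.frame j).co)).mul (RatA.sgl h))

theorem Tri.pair_dv6 (i j : Fin 3) (g h : G) :
    Dv M π 6 (ev (χ : G → ℂ) (e i * sgl g * e j * sgl h) -
      ev (χ : G → ℂ) (x i * sgl g * x j * sgl h)) :=
  have hM := S.hM
  near_dv T.unif ((((T.frame i).near.mul hM (Near.refl hM 6 _) (T.frame i).ring_x
    (AlgRing.single hM g)).mul hM (T.frame j).near ((T.frame i).ring_x.mul hM (AlgRing.single hM g))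
    (T.frame j).ring_x).mul hM (Near.refl hM 6 _)
    (((T.frame i).ring_x.mul hM (AlgRing.single hM g)).mul hM (T.frame j).ring_x) (AlgRing.single hM h))

theorem Tri.pair {i j : Fin 3} (hij : i ≠ j) {a b : MonoidAlgebra ℂ G} (ha : AlgRing M a)
    (hb : AlgRing M b) : Dv M π 1 (ev (χ : G → ℂ) (e i * a * e j * b)) := by
  have hM := S.hM
  have hgrp : ∀ g h : G, Dv M π 1 (ev (χ : G → ℂ) (e i * sgl g * e j * sgl h)) := by
    intro g h
    have hI : MemLocalIdeal M (ev (χ : G → ℂ) (e i * sgl g * e j * sgl h)) := by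
      by_contra hu
      set c := e i * sgl g * e j * sgl h * e i with hc
      have hcr : AlgRing M c := ((((T.frame i).pr.ring.mul hM (AlgRing.single hM g)).mul hM
        (T.frame j).pr.ring).mul hM (AlgRing.single hM h)).mul hM (T.frame i).pr.ring
      have hce : e i * c * e i = c := by
        rw [hc]
        simp only [← mul_assoc, (T.frame i).pr.idem]
        simp only [mul_assoc, (T.frame i).pr.idem]
      have hcv : ev (χ : G → ℂ) c = ev (χ : G → ℂ) (e i * sgl g * e j * sgl h) := by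
        rw [hc, T.aff.ev_comm]
        simp only [← mul_assoc, (T.frame i).pr.idem]
      obtain ⟨w, hw, hwe, hcw, -⟩ := corner_inv S T.aff (T.frame i).pr hcr hce (by rwa [hcv])
      refine T.ne i j hij ⟨sgl g, sgl h * e i * w, AlgRing.single hM g,
        ((AlgRing.single hM h).mul hM (T.frame i).pr.ring).mul hM hw, ?_⟩
      have hwi : w * e i = w := by rw [← hwe, mul_assoc, (T.frame i).pr.idem]
      calc e i = c * w := hcw.symm
        _ = c * (w * e i) := by rw [hwi]
        _ = _ := by rw [hc]; simp only [mul_assoc]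
    rcases T.unif.lift (k := 0) (T.pair_rat i j g h)
      ((T.pair_dv6 i j g h).mono hM T.unif.ring (by omega)) ⟨_, ring_of_ideal hI, by simp⟩ with
      h1 | ⟨z, -, hz, h1⟩
    · exact h1
    · rw [pow_zero, one_mul] at h1
      exact absurd (h1 ▸ hI) hz
  refine dv_linear hM (fun a => ev (χ : G → ℂ) (e i * a * e j * b)) (fun c => ?_) (fun g => ?_) ha
  · simp only [Finset.mul_sum, Finset.sum_mul, mul_smul_comm, smul_mul_assoc, ev_sum_left, ev_smul_left]
  refine dv_linear hM (fun b => ev (χ : G → ℂ) (e i * sgl g * e j * b)) (fun c => ?_) (hgrp g) hb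
  simp only [Finset.mul_sum, mul_smul_comm, ev_sum_left, ev_smul_left]

/-- Between two classes some pair has valuation exactly one. -/
theorem Tri.exists_pair {i j : Fin 3} (hij : i ≠ j) : ∃ g h : G, ∃ z, MemLocalRing M z ∧
    ¬ MemLocalIdeal M z ∧ ev (χ : G → ℂ) (e i * sgl g * e j * sgl h) = π * z := by
  have hM := S.hM
  by_contra hne
  push Not at hne
  have h2 : ∀ g h, Dv M π 2 (ev (χ : G → ℂ) (x i * sgl g * x j * sgl h)) := by
    intro g h
    have hd := (T.pair_dv6 i j g h).mono hM T.unif.ring (show 1 + 1 ≤ 6 by omega)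
    rcases T.unif.lift (T.pair_rat i j g h) hd (T.pair hij (AlgRing.single hM g)
      (AlgRing.single hM h)) with h1 | ⟨z, hzr, hz, h1⟩
    · simpa using h1.sub hM hd
    · exact absurd (by rw [h1, pow_one]) (hne g h z hzr hz)
  obtain ⟨u, hu, hpu⟩ := T.unif.div_p
  have hstep : ∀ g : G, ∃ t, AlgRing M t ∧ Φ (e i * sgl g * e j) = π • Φ (e i * t * e j) := by
    intro g
    set r := π⁻¹ • (x i * sgl g * x j) with hr
    obtain ⟨W, hW, hWχ, -, -⟩ := trick (T.frame 0).cfg (r := r) fun h => by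
      obtain ⟨z, hz, hze⟩ := T.unif.rat_div 2 (T.pair_rat i j g h) (h2 g h)
      have h1 : ev (χ : G → ℂ) (r * sgl h) = π * z := by
        rw [hr, smul_mul_assoc, ev_smul_left, hze]
        have := T.unif.ne
        field_simp
      rw [h1]
      exact ⟨(T.unif.rat.mul hz).1, (T.unif.rat.mul hz).2,
        ideal_mul_right hM T.unif.mem (Sys.Un.ring S hz.1)⟩
    have hΦW : Φ W = Φ r := T.aff.eq fun g => hWχ (sgl g)
    obtain ⟨z, hz, hnear⟩ := ((T.frame i).near.mul hM (Near.refl hM 6 (sgl g)) (T.frame i).ring_x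
      (AlgRing.single hM g)).mul hM (T.frame j).near ((T.frame i).ring_x.mul hM (AlgRing.single hM g))
      (T.frame j).ring_x
    refine ⟨W + (u * (p : ℂ) ^ 5) • z, AlgRing.add hM hW (AlgRing.smul hM
      (ring_mul hM (Sys.Un.ring S hu) (ring_pow hM (ring_natCast hM p) 5)) hz), ?_⟩
    have h1 : Φ (e i * sgl g * e j) = π • Φ (W + (u * (p : ℂ) ^ 5) • z) := by
      rw [hnear, map_add Φ W, hΦW, hr]
      simp only [map_add, map_smul, smul_add, smul_smul]
      rw [mul_inv_cancel₀ T.unif.ne, one_smul, show π * (u * (p : ℂ) ^ 5) = (p : ℂ) ^ 6 by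
        rw [← mul_assoc, ← hpu]; ring]
    have h3 : e i * (e i * sgl g * e j) * e j = e i * sgl g * e j := by
      simp only [← mul_assoc, (T.frame i).pr.idem]
      simp only [mul_assoc, (T.frame j).pr.idem]
    rw [← h3, map_mul Φ (e i * (e i * sgl g * e j)), map_mul Φ (e i), h1, mul_smul_comm,
      smul_mul_assoc, ← map_mul, ← map_mul]
  choose t ht hte using hstep
  have hlin : ∀ (m : ℕ) (a : MonoidAlgebra ℂ G), AlgRing M a →
      ∃ b, AlgRing M b ∧ Φ (e i * a * e j) = π ^ m • Φ (e i * b * e j) := by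
    intro m
    induction m with
    | zero => intro a ha; exact ⟨a, ha, by simp⟩
    | succ m ih =>
      intro a ha
      obtain ⟨b, hb, hbe⟩ := ih a ha
      refine ⟨∑ g : G, b.coeff g • t g, AlgRing.sum hM fun g _ => AlgRing.smul hM (hb g) (ht g), ?_⟩
      rw [hbe, pow_succ, mul_smul]
      congr 1
      conv_lhs => rw [← sum_single b]
      simp only [Finset.mul_sum, Finset.sum_mul, mul_smul_comm, smul_mul_assoc, map_sum, map_smul,
        hte, Finset.smul_sum]
      exact Finset.sum_congr rfl fun g _ => smul_comm _ _ _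
  have hzero : ∀ g : G, ev (χ : G → ℂ) (e i * sgl g * e j * sgl g⁻¹) = 0 := by
    intro g
    refine T.unif.eq_zero (ev_ring S χ ((((T.frame i).pr.ring.mul hM (AlgRing.single hM g)).mul hM
      (T.frame j).pr.ring).mul hM (AlgRing.single hM _))) fun m => ?_
    obtain ⟨b, hb, hbe⟩ := hlin m (sgl g) (AlgRing.single hM g)
    exact ⟨ev (χ : G → ℂ) (e i * b * e j * sgl g⁻¹), ev_ring S χ ((((T.frame i).pr.ring.mul hM hb).mul hM
      (T.frame j).pr.ring).mul hM (AlgRing.single hM _)), by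
      rw [← T.aff.trace, map_mul, hbe, smul_mul_assoc, Matrix.trace_smul, ← map_mul, T.aff.trace,
        smul_eq_mul]⟩
  have hsum : ∑ g : G, ev (χ : G → ℂ) (e i * sgl g * e j * sgl g⁻¹) =
      (Nat.card G : ℂ) / (χ : G → ℂ) 1 := by
    have h1 := congrArg (fun X => (Φ (e i) * X).trace) (T.aff.conj_sum (e j))
    rw [mul_smul_comm, mul_one, Matrix.trace_smul, T.aff.trace, T.value i, T.value j, Finset.mul_sum,
      Matrix.trace_sum, mul_one, smul_eq_mul, mul_one] at h1
    rw [← h1]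
    refine Fintype.sum_equiv (Equiv.inv G) _ _ fun g => ?_
    simp only [Equiv.inv_apply, inv_inv, ← map_mul, T.aff.trace, ← mul_assoc]
  rw [Finset.sum_eq_zero fun g _ => hzero g] at hsum
  exact div_ne_zero (Nat.cast_ne_zero.2 Nat.card_pos.ne') (IsIrr.one_ne_zero χ.2) hsum.symm

/-- Going round two classes after the other. -/
theorem Tri.round_dv {i j k : Fin 3} (hij : i ≠ j) {a b c : MonoidAlgebra ℂ G} (ha : AlgRing M a)
    (hb : AlgRing M b) (hc : AlgRing M c) :
    Dv M π 1 (ev (χ : G → ℂ) (e i * a * e j * b * e k * c)) := by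
  rw [show e i * a * e j * b * e k * c = e i * a * e j * (b * e k * c) by simp only [mul_assoc]]
  exact T.pair hij ha ((hb.mul S.hM (T.frame k).pr.ring).mul S.hM hc)

set_option maxHeartbeats 1000000 in
theorem Tri.round_mul (i j k : Fin 3) (a a' b b' c c' : MonoidAlgebra ℂ G) :
    ev (χ : G → ℂ) (e i * a * e j * b * e k * c) * ev (χ : G → ℂ) (e i * c' * e k * b' * e j * a') =
      ev (χ : G → ℂ) (e i * a * e j * a') * ev (χ : G → ℂ) (e j * b * e k * b') *
        ev (χ : G → ℂ) (e k * c * e i * c') := by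
  have hsq : ∀ l, Φ (e l) * Φ (e l) = Φ (e l) := fun l => (T.frame l).idem_map
  have h1 := T.one i (a * e j * b * e k * c)
  have h2 := T.one i (c' * e k * b' * e j * a')
  have hk := T.one k (c * e i * c')
  have hj := T.one j (b * e k * b')
  have hi := T.one i (a * e j * a')
  simp only [← mul_assoc] at h1 h2 hk hj hi
  set E := Φ (e i) with hE
  set F := Φ (e j) with hF
  set H := Φ (e k) with hH
  simp only [map_mul, ← hE, ← hF, ← hH] at h1 h2 hk hj hi
  have hEE : E * E = E := hsq i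
  have key : (ev (χ : G → ℂ) (e i * a * e j * b * e k * c) *
      ev (χ : G → ℂ) (e i * c' * e k * b' * e j * a')) • E =
      (ev (χ : G → ℂ) (e i * a * e j * a') * ev (χ : G → ℂ) (e j * b * e k * b') *
        ev (χ : G → ℂ) (e k * c * e i * c')) • E := by
    calc _ = (E * Φ a * F * Φ b * H * Φ c * E) * (E * Φ c' * H * Φ b' * F * Φ a' * E) := by
          rw [h1, h2, smul_mul_smul_comm, hEE]
      _ = E * Φ a * F * Φ b * (H * Φ c * E * Φ c' * H) * Φ b' * F * Φ a' * E := by
          rw [show (E * Φ a * F * Φ b * H * Φ c * E) * (E * Φ c' * H * Φ b' * F * Φ a' * E) =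
            E * Φ a * F * Φ b * H * Φ c * (E * E) * Φ c' * H * Φ b' * F * Φ a' * E by
              simp only [mul_assoc], hEE]
          simp only [mul_assoc]
      _ = ev (χ : G → ℂ) (e k * c * e i * c') •
            (E * Φ a * (F * Φ b * H * Φ b' * F) * Φ a' * E) := by
          rw [hk]
          simp only [mul_smul_comm, smul_mul_assoc, mul_assoc]
      _ = (ev (χ : G → ℂ) (e k * c * e i * c') * ev (χ : G → ℂ) (e j * b * e k * b')) •
            (E * Φ a * F * Φ a' * E) := by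
          rw [hj]
          simp only [mul_smul_comm, smul_mul_assoc, smul_smul]
      _ = _ := by rw [hi, smul_smul]; congr 1; ring
  have := congrArg Matrix.trace key
  rw [Matrix.trace_smul, Matrix.trace_smul, hE, T.aff.trace, T.value] at this
  simpa using this

/-- The antipode reverses the cyclic order. -/
theorem Tri.round_star {i j k : Fin 3} {m : ℕ} (hm : m ≤ 6)
    (h : ∀ a b c, AlgRing M a → AlgRing M b → AlgRing M c →
      Dv M π m (ev (χ : G → ℂ) (e i * a * e j * b * e k * c))) (g g' g'' : G) :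
    Dv M π m (ev (χ : G → ℂ) (e i * sgl g * e k * sgl g' * e j * sgl g'')) := by
  have hM := S.hM
  set r := x i * sgl g * x k * sgl g' * x j * sgl g'' with hr
  set s := e i * sgl g * e k * sgl g' * e j * sgl g'' with hs
  have hR : ∀ l, AlgRing M (x l) := fun l => (T.frame l).ring_x
  have hS : ∀ g : G, AlgRing M (sgl g : MonoidAlgebra ℂ G) := AlgRing.single hM
  have hnear : Near M p 6 s r :=
    ((((((T.frame i).near.mul hM (Near.refl hM 6 (sgl g)) (hR i) (hS g)).mul hM (T.frame k).near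
      ((hR i).mul hM (hS g)) (hR k)).mul hM (Near.refl hM 6 (sgl g'))
      (((hR i).mul hM (hS g)).mul hM (hR k)) (hS g')).mul hM (T.frame j).near
      ((((hR i).mul hM (hS g)).mul hM (hR k)).mul hM (hS g')) (hR j)).mul hM
      (Near.refl hM 6 (sgl g''))
      (((((hR i).mul hM (hS g)).mul hM (hR k)).mul hM (hS g')).mul hM (hR j)) (hS g''))
  have hrco : Co S r := Co.mul (Co.mul (Co.mul (Co.mul (Co.mul (T.frame i).co (Co.single S g))
    (T.frame k).co) (Co.single S g')) (T.frame j).co) (Co.single S g'')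
  have hσ : ev (χ : G → ℂ) (anti r) = S.σ j₀ (ev (χ : G → ℂ) r) := by
    rw [ev_anti, ev, map_sum]
    exact Finset.sum_congr rfl fun l _ => by rw [map_mul, S.σ_U0 j₀ (hrco l), T.real]
  obtain ⟨ui, vi, hui, hvi, hi⟩ := T.star i
  obtain ⟨uj, vj, huj, hvj, hj⟩ := T.star j
  obtain ⟨uk, vk, huk, hvk, hk⟩ := T.star k
  have hA : ∀ l, AlgRing M (anti (e l)) := fun l => AlgRing.anti (T.frame l).pr.ring
  set Ei := anti (e i) with hEi
  set Ej := anti (e j) with hEj
  set Ek := anti (e k) with hEk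
  have hval : ev (χ : G → ℂ) (anti s) = ev (χ : G → ℂ) (e i * (vi * Ei * sgl g''⁻¹ * Ej * uj) * e j *
      (vj * Ej * sgl g'⁻¹ * Ek * uk) * e k * (vk * Ek * sgl g⁻¹ * Ei * ui)) := by
    calc ev (χ : G → ℂ) (anti s) =
          ev (χ : G → ℂ) (sgl g''⁻¹ * Ej * sgl g'⁻¹ * Ek * sgl g⁻¹ * Ei) := by
            rw [hs]
            simp only [anti_mul, anti_sgl, ← hEi, ← hEj, ← hEk, mul_assoc]
      _ = ev (χ : G → ℂ) (Ei * (sgl g''⁻¹ * Ej * sgl g'⁻¹ * Ek * sgl g⁻¹)) := T.aff.ev_comm _ _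
      _ = ev (χ : G → ℂ) (Ei * ui * (e i * vi * Ei *
            (sgl g''⁻¹ * (Ej * uj * e j * vj * Ej) * sgl g'⁻¹ * (Ek * uk * e k * vk * Ek) * sgl g⁻¹))) := by
            rw [← hj, ← hk]
            conv_lhs => rw [hi]
            simp only [mul_assoc]
      _ = _ := by
            rw [T.aff.ev_comm]
            simp only [mul_assoc]
  have h1 : Dv M π m (ev (χ : G → ℂ) (anti s)) := by
    rw [hval]
    exact h _ _ _ ((((hvi.mul hM (hA i)).mul hM (hS _)).mul hM (hA j)).mul hM huj)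
      ((((hvj.mul hM (hA j)).mul hM (hS _)).mul hM (hA k)).mul hM huk)
      ((((hvk.mul hM (hA k)).mul hM (hS _)).mul hM (hA i)).mul hM hui)
  have h2 := (near_dv (χ := χ) T.unif hnear.anti).mono hM T.unif.ring hm
  have h3 : Dv M π m (S.σ j₀ (ev (χ : G → ℂ) r)) := by
    rw [← hσ]
    simpa using h1.sub hM h2
  have h4 := T.unif.dv_of_σ (T.frame 0).cfg.dvd j₀ m
    (RatA.ev (T.frame 0).cfg.dvd (RatA.of_co hrco)) h3
  simpa using ((near_dv (χ := χ) T.unif hnear).mono hM T.unif.ring hm).add hM h4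

theorem Tri.round_all {i j k : Fin 3} {m : ℕ}
    (h : ∀ g g' g'' : G, Dv M π m (ev (χ : G → ℂ) (e i * sgl g * e j * sgl g' * e k * sgl g'')))
    {a b c : MonoidAlgebra ℂ G} (ha : AlgRing M a) (hb : AlgRing M b) (hc : AlgRing M c) :
    Dv M π m (ev (χ : G → ℂ) (e i * a * e j * b * e k * c)) := by
  have hM := S.hM
  refine dv_linear hM (fun a => ev (χ : G → ℂ) (e i * a * e j * b * e k * c)) (fun q => ?_)
    (fun g => ?_) ha
  · simp only [Finset.mul_sum, Finset.sum_mul, mul_smul_comm, smul_mul_assoc, ev_sum_left, ev_smul_left]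
  refine dv_linear hM (fun b => ev (χ : G → ℂ) (e i * sgl g * e j * b * e k * c)) (fun q => ?_)
    (fun g' => ?_) hb
  · simp only [Finset.mul_sum, Finset.sum_mul, mul_smul_comm, smul_mul_assoc, ev_sum_left, ev_smul_left]
  refine dv_linear hM (fun c => ev (χ : G → ℂ) (e i * sgl g * e j * sgl g' * e k * c)) (fun q => ?_)
    (h g g') hc
  simp only [Finset.mul_sum, mul_smul_comm, ev_sum_left, ev_smul_left]

theorem Tri.round_exact (i j k : Fin 3) (hij : i ≠ j) (g g' g'' : G)
    (h : ¬ Dv M π 2 (ev (χ : G → ℂ) (e i * sgl g * e j * sgl g' * e k * sgl g''))) :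
    ∃ z, MemLocalRing M z ∧ ¬ MemLocalIdeal M z ∧
      ev (χ : G → ℂ) (e i * sgl g * e j * sgl g' * e k * sgl g'') = π * z := by
  have hM := S.hM
  have hS : ∀ g : G, AlgRing M (sgl g : MonoidAlgebra ℂ G) := AlgRing.single hM
  have hR : ∀ l, AlgRing M (x l) := fun l => (T.frame l).ring_x
  have hnear :=
    ((((((T.frame i).near.mul hM (Near.refl hM 6 (sgl g)) (hR i) (hS g)).mul hM (T.frame j).near
      ((hR i).mul hM (hS g)) (hR j)).mul hM (Near.refl hM 6 (sgl g'))
      (((hR i).mul hM (hS g)).mul hM (hR j)) (hS g')).mul hM (T.frame k).near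
      ((((hR i).mul hM (hS g)).mul hM (hR j)).mul hM (hS g')) (hR k)).mul hM
      (Near.refl hM 6 (sgl g''))
      (((((hR i).mul hM (hS g)).mul hM (hR j)).mul hM (hS g')).mul hM (hR k)) (hS g''))
  have hrat := RatA.ev (χ := χ) (T.frame 0).cfg.dvd (((((((RatA.of_co (T.frame i).co)).mul
    (RatA.sgl g)).mul (RatA.of_co (T.frame j).co)).mul (RatA.sgl g')).mul
      (RatA.of_co (T.frame k).co)).mul (RatA.sgl g''))
  rcases T.unif.lift hrat ((near_dv T.unif hnear).mono hM T.unif.ring (show 1 + 1 ≤ 6 by omega))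
    (T.round_dv hij (hS g) (hS g') (hS g'')) with h1 | ⟨z, hz, hzu, h1⟩
  · exact absurd h1 h
  · exact ⟨z, hz, hzu, by rw [h1, pow_one]⟩

theorem Tri.absurd_tri : False := by
  have hM := S.hM
  have hS : ∀ g : G, AlgRing M (sgl g : MonoidAlgebra ℂ G) := AlgRing.single hM
  by_cases hA : ∀ g g' g'' : G,
      Dv M π 2 (ev (χ : G → ℂ) (e 0 * sgl g * e 1 * sgl g' * e 2 * sgl g''))
  · obtain ⟨a, a', za, hza, hzau, hea⟩ := T.exists_pair (i := 0) (j := 1) (by decide)
    obtain ⟨b, b', zb, hzb, hzbu, heb⟩ := T.exists_pair (i := 1) (j := 2) (by decide)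
    obtain ⟨c, c', zc, hzc, hzcu, hec⟩ := T.exists_pair (i := 2) (j := 0) (by decide)
    have h2 := T.round_star (i := 0) (j := 1) (k := 2) (m := 2) (by omega)
      (fun u v w hu hv hw => T.round_all hA hu hv hw) c' b' a'
    have h4 := (hA a b c).mul hM h2
    rw [T.round_mul, hea, heb, hec, show π * za * (π * zb) * (π * zc) = π ^ 3 * (za * zb * zc) by ring]
      at h4
    exact T.unif.exact (ideal_notMem_mul hM (ring_mul hM hza hzb) hzc
      (ideal_notMem_mul hM hza hzb hzau hzbu) hzcu) h4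
  · push Not at hA
    obtain ⟨g, g', g'', hg⟩ := hA
    obtain ⟨z, hz, hzu, hze⟩ := T.round_exact 0 1 2 (by decide) g g' g'' hg
    obtain ⟨k, k', k'', hk⟩ : ∃ k k' k'' : G,
        ¬ Dv M π 2 (ev (χ : G → ℂ) (e 0 * sgl k * e 2 * sgl k' * e 1 * sgl k'')) := by
      by_contra hall
      push Not at hall
      exact hg (T.round_star (i := 0) (j := 2) (k := 1) (m := 2) (by omega)
        (fun u v w hu hv hw => T.round_all hall hu hv hw) g g' g'')
    obtain ⟨z', hz', hzu', hze'⟩ := T.round_exact 0 2 1 (by decide) k k' k'' hk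
    have h3 : Dv M π 3 (π ^ 2 * (z * z')) := by
      rw [show π ^ 2 * (z * z') = (π * z) * (π * z') by ring, ← hze, ← hze', T.round_mul]
      exact ((T.pair (by decide) (hS _) (hS _)).mul hM (T.pair (by decide) (hS _) (hS _))).mul hM
        (T.pair (by decide) (hS _) (hS _))
    exact T.unif.exact (ideal_notMem_mul hM hz hz' hzu hzu') h3

omit T

open Classical in
/-- When every singular element has order `p`, their number is prime to `p` and the character is
real on the regular elements, at most two classes of primitive idempotents fixed by the antipode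
have a nonzero value. -/
theorem not_three (hM : IsPModular p M) (hfac : (Nat.card G).factorization p = 1)
    (χ : IrrCharacter G) (hdeg : ¬ p ∣ charDegree (χ : G → ℂ))
    (hord : ∀ g : G, p ∣ orderOf g → g ^ p = 1)
    (hnum : ¬ p ∣ (Finset.univ.filter fun g : G => p ∣ orderOf g).card)
    (hreal : ∀ g : G, ¬ p ∣ orderOf g → (χ : G → ℂ) g⁻¹ = (χ : G → ℂ) g)
    (e : Fin 3 → MonoidAlgebra ℂ G) (he : ∀ i, Pr M (e i))
    (hne : ∀ i j, i ≠ j → ¬ Eqv M (e i) (e j)) (hstar : ∀ i, Eqv M (anti (e i)) (e i))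
    (hval : ∀ i, ev (χ : G → ℂ) (e i) ≠ 0) : False := by
  choose m ε hm hε hεI using fun i g => exists_root hM ((he i).ring g)
  have hpm : ¬ p ∣ Nat.card G / p := by
    have := Nat.not_dvd_ordCompl hp.out (Nat.card_pos (α := G)).ne'
    rwa [hfac, pow_one] at this
  set N := (Nat.card G / p) * ∏ q : Fin 3 × G, m q.1 q.2 with hN
  have hprod : ¬ p ∣ ∏ q : Fin 3 × G, m q.1 q.2 := fun h => by
    obtain ⟨q, -, hq⟩ := (hp.out.prime.dvd_finset_prod_iff _).1 h
    exact hm q.1 q.2 hq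
  have hNp : ¬ p ∣ N := fun h => (hp.out.dvd_mul.1 h).elim hpm hprod
  obtain ⟨S, hSN⟩ := exists_sys hM (Nat.pos_of_ne_zero (n := N) fun h => hNp (by rw [h]; exact dvd_zero p)) hNp
  have hdvd : Nat.card G ∣ p * S.N := by
    rw [hSN, hN, ← mul_assoc, Nat.mul_div_cancel' ?_]
    · exact dvd_mul_right _ _
    · exact Nat.dvd_of_factorization_pos (hfac.symm ▸ one_ne_zero)
  have hroot : ∀ i g, ∃ c, S.Un0 c ∧ MemLocalIdeal M ((e i).coeff g - c) := by
    intro i g
    refine ⟨ε i g, ?_, hεI i g⟩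
    rcases hε i g with h | h
    · rw [h]; exact (S.U0).zero_mem
    · have h1 : ε i g ^ S.N = 1 := by
        rw [hSN, hN, mul_comm, ← Finset.mul_prod_erase Finset.univ _ (Finset.mem_univ (i, g)),
          mul_assoc, pow_mul, h, one_pow]
      haveI : NeZero S.N := ⟨S.N_pos.ne'⟩
      obtain ⟨k, -, hk⟩ := S.prim_ω.eq_pow_of_pow_eq_one h1
      rw [← hk]
      exact (S.U0).pow_mem (S.un0_of_mem S.ω_mem) k
  choose e' x hpr heqv hco hnear using fun i => exists_near S (he i) (hroot i) 6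
  obtain ⟨π, hπ⟩ := exists_unif S χ
  obtain ⟨n, Φ, hΦ⟩ := exists_afford χ
  have hF : ∀ i, Frame S χ π n Φ (e' i) (x i) := fun i =>
    ⟨⟨hdvd, hfac, hdeg⟩, hπ, hΦ, hpr i, hco i, hnear i⟩
  have hmult : ∀ i, ev (χ : G → ℂ) (e' i) = 1 ∧
      ∀ a, Φ (e' i * a * e' i) = ev (χ : G → ℂ) (e' i * a) • Φ (e' i) := fun i =>
    (hF i).mult hord hnum (by
      rw [Eqv.ev_eq hM (hpr i) (he i) (heqv i) (IsIrr.classFun χ.2)]
      exact hval i)
  refine Tri.absurd_tri (S := S) (χ := χ) (π := π) (Φ := Φ) (j₀ := -1) (e := e') (x := x)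
    ⟨hF, fun i j hij h => hne i j hij ?_, fun i => ?_, fun i => (hmult i).1, fun i => (hmult i).2,
      fun g => ?_⟩
  · exact Eqv.trans hM (hpr i) (Eqv.symm hM (hpr i) (he i) (heqv i))
      (Eqv.trans hM (hpr j) h (heqv j))
  · exact Eqv.trans hM (anti_pr hM (he i)) (anti_eqv (heqv i))
      (Eqv.trans hM (he i) (hstar i) (Eqv.symm hM (hpr i) (he i) (heqv i)))
  · by_cases hg : p ∣ orderOf g
    · obtain ⟨d, ρ, -, hρ⟩ := χ.2
      obtain ⟨b, c, -, hcr, hk⟩ := exists_rep_eigenbasis ρ g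
      obtain ⟨r, hr⟩ := orderOf_dvd_of_pow_eq_one (hord g hg)
      have hcp : ∀ i, c i ^ p = 1 := fun i => by rw [hr, pow_mul, hcr, one_pow]
      have hginv : g⁻¹ = g ^ (p - 1) := by
        refine inv_eq_of_mul_eq_one_right ?_
        rw [← pow_succ', Nat.sub_add_cancel hp.out.one_le, hord g hg]
      haveI : NeZero p := ⟨hp.out.ne_zero⟩
      rw [← hρ, hginv, hk (p - 1)]
      conv_rhs => rw [show g = g ^ 1 from (pow_one g).symm, hk 1, map_sum]
      refine Finset.sum_congr rfl fun i _ => ?_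
      obtain ⟨s, -, hs⟩ := S.prim_ζ.eq_pow_of_pow_eq_one (hcp i)
      rw [pow_one, ← hs, map_pow, S.σ_ζ, ← pow_mul, ← pow_mul, mul_comm s, Units.val_neg, Units.val_one]
      congr 2
      obtain ⟨q, hq⟩ : ∃ q, p = q + 1 := ⟨p - 1, by have := hp.out.pos; omega⟩
      subst hq
      rw [ZMod.val_neg_one, Nat.add_sub_cancel]
    · rw [hreal g hg, σ_regular hdvd _ hg]

end Cfsg.Agent.Char.Stem
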