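import Cfsg.Agent.Lib.Char.Stem.Ring

/-!
The automorphisms on the local ring of `ℚ(ω, ζ)`: they are trivial on residues, the trace of an
element of the maximal ideal is a multiple of `p`, and every nonzero element is a power of the
uniformizer times a unit.
-/

set_option autoImplicit false

namespace Cfsg.Agent.Char.Stem

open Cfsg Cfsg.Agent.Block

variable {p : ℕ} {M : Ideal AlgInt}

namespace Sys

variable [hp : Fact p.Prime] (S : Sys p M)

theorem σ_R0 (j : (ZMod p)ˣ) {a : ℂ} (ha : a ∈ S.R0) : S.σ j a = a := by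
  refine Subring.closure_induction (p := fun a _ => S.σ j a = a) ?_ (map_zero _) (map_one _) ?_ ?_ ?_ ha
  · rintro z rfl
    exact S.σ_ω j
  · intro x y _ _ hx hy; rw [map_add, hx, hy]
  · intro x _ hx; rw [map_neg, hx]
  · intro x y _ _ hx hy; rw [map_mul, hx, hy]

theorem σ_ζ_pow (j : (ZMod p)ˣ) (i : ℕ) :
    S.σ j (S.ζ ^ i) = S.ζ ^ ((j : ZMod p).val * i) := by
  rw [map_pow, S.σ_ζ, ← pow_mul]

/-- Every integer is a combination of powers of `ζ`. -/
theorem exists_expansion {a : ℂ} (ha : a ∈ S.R1) :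
    ∃ P : Polynomial ℂ, (∀ i, P.coeff i ∈ S.R0) ∧ a = P.eval S.ζ := by
  refine Subring.closure_induction (p := fun a _ => ∃ P : Polynomial ℂ, (∀ i, P.coeff i ∈ S.R0) ∧ a = P.eval S.ζ)
    ?_ ⟨0, by simp, by simp⟩ ⟨1, fun i => ?_, by simp⟩ ?_ ?_ ?_ ha
  · rintro z (rfl | rfl)
    · refine ⟨Polynomial.C S.ω, fun i => ?_, by simp⟩
      rw [Polynomial.coeff_C]
      split_ifs
      exacts [S.ω_mem, zero_mem _]
    · refine ⟨Polynomial.X, fun i => ?_, by simp⟩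
      rw [Polynomial.coeff_X]
      split_ifs
      exacts [one_mem _, zero_mem _]
  · rw [Polynomial.coeff_one]
    split_ifs
    exacts [one_mem _, zero_mem _]
  · rintro _ _ _ _ ⟨P, hP, rfl⟩ ⟨Q, hQ, rfl⟩
    exact ⟨P + Q, fun i => by rw [Polynomial.coeff_add]; exact add_mem (hP i) (hQ i), by simp⟩
  · rintro _ _ ⟨P, hP, rfl⟩
    exact ⟨-P, fun i => by rw [Polynomial.coeff_neg]; exact neg_mem (hP i), by simp⟩
  · rintro _ _ _ _ ⟨P, hP, rfl⟩ ⟨Q, hQ, rfl⟩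
    refine ⟨P * Q, fun i => ?_, by simp⟩
    rw [Polynomial.coeff_mul]
    exact sum_mem fun x _ => mul_mem (hP _) (hQ _)

theorem σ_mem_R1 (j : (ZMod p)ˣ) {a : ℂ} (ha : a ∈ S.R1) :
    S.σ j a ∈ S.R1 ∧ MemLocalIdeal M (S.σ j a - a) := by
  obtain ⟨P, hP, rfl⟩ := S.exists_expansion ha
  rw [Polynomial.eval_eq_sum_range, map_sum, ← Finset.sum_sub_distrib]
  have h : ∀ i, S.σ j (P.coeff i * S.ζ ^ i) = P.coeff i * S.ζ ^ ((j : ZMod p).val * i) := fun i => by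
    rw [map_mul, S.σ_R0 j (hP i), S.σ_ζ_pow]
  refine ⟨sum_mem fun i _ => ?_, ideal_sum S.hM fun i _ => ?_⟩
  · rw [h]
    exact mul_mem (S.R0_le (hP i)) (pow_mem S.ζ_mem _)
  · rw [h, ← mul_sub, ← sub_sub_sub_cancel_right (S.ζ ^ ((j : ZMod p).val * i)) (S.ζ ^ i) 1]
    have hone : ∀ n : ℕ, MemLocalIdeal M (S.ζ ^ n - 1) := fun n =>
      ideal_root_sub_one S.hM (k := 1) (by rw [pow_one, ← pow_mul, mul_comm, pow_mul, S.prim_ζ.pow_eq_one, one_pow])
    exact ideal_mul_left S.hM (S.ring_R0 (hP i)) (ideal_sub S.hM (hone _) (hone _))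

theorem Un.σ (j : (ZMod p)ˣ) {x : ℂ} (hx : S.Un x) :
    S.Un (S.σ j x) ∧ MemLocalIdeal M (S.σ j x - x) := by
  obtain ⟨a, ha, c, hc, hcu, e⟩ := hx
  have e' := congrArg (S.σ j) e
  rw [map_mul, S.σ_R0 j hc] at e'
  refine ⟨⟨_, (S.σ_mem_R1 j ha).1, c, hc, hcu, e'⟩, ?_⟩
  rw [show S.σ j x - x = (S.σ j a - a) * c⁻¹ by
    rw [← e', ← e, ← sub_mul, mul_inv_cancel_right₀ (S.ne_zero_of_unit hcu)]]
  exact ideal_mul_right S.hM (S.σ_mem_R1 j ha).2 (ring_inv S.hM (S.ring_R0 hc) hcu)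

theorem σ_U0 (j : (ZMod p)ˣ) {x : ℂ} (hx : S.Un0 x) : S.σ j x = x := by
  obtain ⟨a, ha, c, hc, hcu, e⟩ := hx
  have e' := congrArg (S.σ j) e
  rw [map_mul, S.σ_R0 j hc, S.σ_R0 j ha, ← e] at e'
  exact mul_right_cancel₀ (S.ne_zero_of_unit hcu) e'

theorem σ_comp (i j : (ZMod p)ˣ) {x : ℂ} (hx : S.Un x) : S.σ i (S.σ j x) = S.σ (i * j) x := by
  obtain ⟨a, ha, c, hc, hcu, e⟩ := hx
  have key : S.σ i (S.σ j a) = S.σ (i * j) a := by
    obtain ⟨P, hP, rfl⟩ := S.exists_expansion ha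
    rw [Polynomial.eval_eq_sum_range, map_sum, map_sum, map_sum]
    refine Finset.sum_congr rfl fun k _ => ?_
    rw [map_mul, map_mul, map_mul, S.σ_R0 j (hP k), S.σ_R0 i (hP k), S.σ_R0 (i * j) (hP k),
      S.σ_ζ_pow, S.σ_ζ_pow, S.σ_ζ_pow, pow_eq_pow_mod _ S.prim_ζ.pow_eq_one,
      pow_eq_pow_mod (((i * j : (ZMod p)ˣ) : ZMod p).val * k) S.prim_ζ.pow_eq_one]
    congr 2
    rw [Units.val_mul, ZMod.val_mul, Nat.mod_mul_mod, mul_assoc]
  rw [← e] at key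
  simp only [map_mul, S.σ_R0 _ hc] at key
  exact mul_right_cancel₀ (S.ne_zero_of_unit hcu) key

theorem σ_one {x : ℂ} (hx : S.Un x) : S.σ 1 x = x := by
  have h := S.σ_comp 1 1 hx
  rw [mul_one] at h
  exact (S.σ 1).injective h

/-- The trace down to `ℚ(ω)`. -/
noncomputable def tr (x : ℂ) : ℂ := ∑ j : (ZMod p)ˣ, S.σ j x

theorem geom_units (i : ℕ) :
    ∑ j : (ZMod p)ˣ, S.ζ ^ ((j : ZMod p).val * i) = if p ∣ i then ((p - 1 : ℕ) : ℂ) else -1 := by
  split_ifs with h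
  · obtain ⟨m, rfl⟩ := h
    rw [Finset.sum_congr rfl (g := fun _ => (1 : ℂ)) fun j _ => by
      rw [← mul_assoc, mul_comm _ p, mul_assoc, pow_mul, S.prim_ζ.pow_eq_one, one_pow]]
    rw [Finset.sum_const, Finset.card_univ, ZMod.card_units, nsmul_one]
  · have hprim : IsPrimitiveRoot (S.ζ ^ i) p :=
      S.prim_ζ.pow_of_coprime i ((hp.out.coprime_iff_not_dvd.2 h).symm)
    have h1 := hprim.geom_sum_eq_zero hp.out.one_lt
    have h2 : ∑ j : (ZMod p)ˣ, S.ζ ^ ((j : ZMod p).val * i) =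
        ∑ z ∈ (Finset.range p).erase 0, (S.ζ ^ i) ^ z := by
      refine Finset.sum_bij (fun (j : (ZMod p)ˣ) _ => (j : ZMod p).val) (fun j _ => ?_)
        (fun j _ j' _ e => Units.ext (ZMod.val_injective p e)) (fun z hz => ?_) fun j _ => ?_
      · exact Finset.mem_erase.2 ⟨fun e => j.ne_zero ((ZMod.val_eq_zero _).1 e),
          Finset.mem_range.2 (ZMod.val_lt _)⟩
      · obtain ⟨hz0, hz1⟩ := Finset.mem_erase.1 hz
        have hz1' := Finset.mem_range.1 hz1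
        have hne : (z : ZMod p) ≠ 0 := fun e => hz0 (Nat.eq_zero_of_dvd_of_lt
          ((CharP.cast_eq_zero_iff (ZMod p) p _).1 e) hz1')
        exact ⟨Units.mk0 _ hne, Finset.mem_univ _, by
          rw [Units.val_mk0, ZMod.val_natCast, Nat.mod_eq_of_lt hz1']⟩
      · rw [← pow_mul, mul_comm]
    rw [h2, Finset.sum_erase_eq_sub (Finset.mem_range.2 hp.out.pos), h1, pow_zero, zero_sub]

theorem tr_R1 {a : ℂ} (ha : a ∈ S.R1) : S.tr a ∈ S.R0 := by
  obtain ⟨P, hP, rfl⟩ := S.exists_expansion ha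
  rw [tr, Polynomial.eval_eq_sum_range]
  simp only [map_sum]
  rw [Finset.sum_comm]
  refine sum_mem fun i _ => ?_
  rw [Finset.sum_congr rfl fun j _ => by rw [map_mul, S.σ_R0 j (hP i), S.σ_ζ_pow],
    ← Finset.mul_sum, S.geom_units]
  refine mul_mem (hP i) ?_
  split_ifs
  exacts [natCast_mem _ _, neg_mem (one_mem _)]

theorem tr_un {x : ℂ} (hx : S.Un x) : S.Un0 (S.tr x) := by
  obtain ⟨a, ha, c, hc, hcu, e⟩ := hx
  refine ⟨S.tr a, S.tr_R1 ha, c, hc, hcu, ?_⟩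
  rw [tr, tr, Finset.sum_mul]
  refine Finset.sum_congr rfl fun j _ => ?_
  rw [← e, map_mul, S.σ_R0 j hc]

/-- The trace of an element of the maximal ideal is a multiple of `p`. -/
theorem tr_div_p {x : ℂ} (hx : S.Un x) (hI : MemLocalIdeal M x) :
    ∃ b, S.Un0 b ∧ S.tr x = p * b := by
  refine Un0.div_p S (S.tr_un hx) (ideal_sum S.hM fun j _ => ?_)
  have := ideal_add S.hM (Un.σ S j hx).2 hI
  rwa [sub_add_cancel] at this

theorem σ_unit (j : (ZMod p)ˣ) {x : ℂ} (hx : S.Un x) :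
    MemLocalIdeal M (S.σ j x) ↔ MemLocalIdeal M x :=
  ideal_congr S.hM (Un.σ S j hx).2

theorem Un.inv {x : ℂ} (hx : S.Un x) (hu : ¬ MemLocalIdeal M x) : S.Un x⁻¹ := by
  classical
  set n := ∏ j : (ZMod p)ˣ, S.σ j x with hn
  have hU : ∀ j, S.Un (S.σ j x) := fun j => (Un.σ S j hx).1
  have hnU : S.Un n := (S.U).prod_mem fun j _ => hU j
  have hnu : ¬ MemLocalIdeal M n := ideal_notMem_prod S.hM fun j _ =>
    ⟨Un.ring S (hU j), fun h => hu ((S.σ_unit j hx).1 h)⟩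
  have hfix : ∀ i, S.σ i n = n := fun i => by
    rw [hn, map_prod]
    exact Fintype.prod_bijective _ (Group.mulLeft_bijective i) _ _ fun j => S.σ_comp i j hx
  have htr : S.tr n = ((p - 1 : ℕ) : ℂ) * n := by
    rw [tr, Finset.sum_congr rfl fun i _ => hfix i, Finset.sum_const, Finset.card_univ,
      ZMod.card_units, nsmul_eq_mul]
  have h0 := S.tr_un hnU
  rw [htr] at h0
  obtain ⟨a, ha, c, hc, hcu, e⟩ := h0
  have hp1 : ¬ MemLocalIdeal M ((p - 1 : ℕ) : ℂ) := fun h => by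
    have := hp.out.two_le
    have := Nat.le_of_dvd (by omega) ((ideal_natCast_iff S.hM _).1 h)
    omega
  have hau : ¬ MemLocalIdeal M a := e ▸ ideal_notMem_mul S.hM
    (ring_mul S.hM (ring_natCast S.hM _) (Un.ring S hnU)) (S.ring_R0 hc)
    (ideal_notMem_mul S.hM (ring_natCast S.hM _) (Un.ring S hnU) hp1 hnu) hcu
  have hrest : S.Un (∏ j ∈ Finset.univ.erase (1 : (ZMod p)ˣ), S.σ j x) :=
    (S.U).prod_mem fun j _ => hU j
  have hinv : x⁻¹ = (∏ j ∈ Finset.univ.erase (1 : (ZMod p)ˣ), S.σ j x) *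
      (((p - 1 : ℕ) : ℂ) * c) * a⁻¹ := by
    have hsplit : n = x * ∏ j ∈ Finset.univ.erase (1 : (ZMod p)ˣ), S.σ j x := by
      rw [hn, ← Finset.mul_prod_erase Finset.univ _ (Finset.mem_univ (1 : (ZMod p)ˣ)), S.σ_one hx]
    refine inv_eq_of_mul_eq_one_right ?_
    rw [show ∀ u v w z : ℂ, u * (v * w * z) = w * (u * v) * z from fun u v w z => by ring,
      ← hsplit, mul_right_comm _ _ n, e, mul_inv_cancel₀ (S.ne_zero_of_unit hau)]
  rw [hinv]
  exact Un.mul S (Un.mul S hrest (Un.mul S (S.un_of_mem (natCast_mem _ _)) (S.un_of_mem (S.R0_le hc))))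
    ⟨1, one_mem _, a, ha, hau, inv_mul_cancel₀ (S.ne_zero_of_unit hau)⟩

omit hp in
/-- A nonzero algebraic integer is not divisible by every power of `p`. -/
theorem bound {a : ℂ} (hM : IsPModular p M) (ha : IsIntegral ℤ a) (h0 : a ≠ 0) :
    ∃ m : ℕ, ¬ ∃ y, MemLocalRing M y ∧ a = (p : ℂ) ^ m * y := by
  have hirr : Irreducible (minpoly ℤ a) := minpoly.irreducible ha
  set P := minpoly ℤ a with hP
  have hc0 : P.coeff 0 ≠ 0 := by
    intro h
    obtain ⟨Q, hQ⟩ := Polynomial.X_dvd_iff.2 h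
    rcases hirr.isUnit_or_isUnit hQ with hu | hu
    · exact Polynomial.not_isUnit_X hu
    · obtain ⟨u, hu', rfl⟩ := Polynomial.isUnit_iff.1 hu
      have h1 : Polynomial.aeval a P = 0 := minpoly.aeval ℤ a
      rw [hQ, map_mul, Polynomial.aeval_X, Polynomial.aeval_C, mul_eq_zero] at h1
      rcases Int.isUnit_iff.1 hu' with rfl | rfl <;> simp [h0] at h1
  have h1 : Polynomial.aeval a P = 0 := minpoly.aeval ℤ a
  rw [← Polynomial.X_mul_divX_add P, map_add, map_mul, Polynomial.aeval_X, Polynomial.aeval_C] at h1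
  set c := P.coeff 0
  have hb : MemLocalRing M (Polynomial.aeval a P.divX) := ring_of_integral hM
    (IsIntegral.of_mem_of_fg (Algebra.adjoin ℤ {a}) ha.fg_adjoin_singleton _
      (Polynomial.aeval_mem_adjoin_singleton ℤ a))
  obtain ⟨m, hm⟩ : ∃ m : ℕ, ¬ ((p : ℤ) ^ m) ∣ c := by
    refine ⟨c.natAbs, fun h => ?_⟩
    have h2 := Int.natAbs_dvd_natAbs.2 h
    rw [Int.natAbs_pow, Int.natAbs_natCast] at h2
    have := Nat.le_of_dvd (Int.natAbs_pos.2 hc0) h2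
    have := Nat.lt_pow_self (n := c.natAbs) (pmod_prime hM).one_lt
    omega
  refine ⟨m, ?_⟩
  rintro ⟨y, hy, he⟩
  have hdiv : ∀ (m : ℕ) (c : ℤ) (z : ℂ), MemLocalRing M z → (c : ℂ) = (p : ℂ) ^ m * z →
      (p : ℤ) ^ m ∣ c := by
    intro m
    induction m with
    | zero => simp
    | succ m ih =>
      intro c z hz hcz
      obtain ⟨c', rfl⟩ := (ideal_intCast_iff hM c).1 (by
        rw [hcz, pow_succ', mul_assoc]
        exact ideal_mul_right hM (ideal_p hM) (ring_mul hM (ring_pow hM (ring_natCast hM _) _) hz))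
      rw [pow_succ']
      refine mul_dvd_mul_left _ (ih c' z hz ?_)
      refine mul_left_cancel₀ (Nat.cast_ne_zero.2 (pmod_prime hM).ne_zero : (p : ℂ) ≠ 0) ?_
      push_cast at hcz
      rw [hcz]
      ring
  refine hm (hdiv m c (-(y * Polynomial.aeval a P.divX)) (ring_neg (ring_mul hM hy hb)) ?_)
  simp only [algebraMap_int_eq, eq_intCast] at h1
  rw [he] at h1 ⊢
  linear_combination h1

/-- The `(p - 1)`-st power of the uniformizer is a multiple of `p`. -/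
theorem lam_pow {y : ℂ} (hy : MemLocalRing M y) :
    ∃ y', MemLocalRing M y' ∧ S.lam ^ (p - 1) * y = p * y' := by
  have hfac : ∀ i ∈ Finset.range (p - 1), ∃ g ∈ S.R1, ¬ MemLocalIdeal M g ∧
      S.ζ ^ (i + 1) - 1 = S.lam * g := by
    intro i hi
    refine ⟨∑ j ∈ Finset.range (i + 1), S.ζ ^ j, sum_mem fun j _ => pow_mem S.ζ_mem j, fun h => ?_,
      by rw [lam, mul_comm, geom_sum_mul]⟩
    have h2 : MemLocalIdeal M ((∑ j ∈ Finset.range (i + 1), S.ζ ^ j) - ((i + 1 : ℕ) : ℂ)) := by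
      rw [show ((i + 1 : ℕ) : ℂ) = ∑ _j ∈ Finset.range (i + 1), (1 : ℂ) by simp,
        ← Finset.sum_sub_distrib]
      exact ideal_sum S.hM fun j _ => ideal_root_sub_one S.hM (k := 1)
        (by rw [pow_one, ← pow_mul, mul_comm, pow_mul, S.prim_ζ.pow_eq_one, one_pow])
    have := (ideal_natCast_iff S.hM _).1 ((ideal_congr S.hM h2).1 h)
    have := Nat.le_of_dvd (Nat.succ_pos i) this
    have := Finset.mem_range.1 hi
    omega
  choose g hg hgu hge using hfac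
  have hprod : (∏ i ∈ (Finset.range (p - 1)).attach, g i.1 i.2) * S.lam ^ (p - 1) = (-1) ^ (p - 1) * (p : ℂ) := by
    obtain ⟨n, hn⟩ : ∃ n, p = n + 1 := ⟨p - 1, by have := hp.out.pos; omega⟩
    have hpp := (hn ▸ S.prim_ζ : IsPrimitiveRoot S.ζ (n + 1)).prod_one_sub_pow_eq_order
    have h3 : ∏ i ∈ Finset.range (p - 1), (S.ζ ^ (i + 1) - 1) =
        (∏ i ∈ (Finset.range (p - 1)).attach, g i.1 i.2) * S.lam ^ (p - 1) := by
      rw [← Finset.prod_attach, Finset.prod_congr rfl fun i _ => hge i.1 i.2,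
        Finset.prod_mul_distrib, Finset.prod_const, Finset.card_attach, Finset.card_range]
      ring
    rw [← h3, show p - 1 = n by omega]
    have h4 : ∀ i : ℕ, S.ζ ^ (i + 1) - 1 = (-1 : ℂ) * (1 - S.ζ ^ (i + 1)) := fun i => by ring
    rw [Finset.prod_congr rfl fun i _ => h4 i, Finset.prod_mul_distrib, Finset.prod_const,
      Finset.card_range, hpp, hn, Nat.cast_succ]
  have hu : ¬ MemLocalIdeal M (∏ i ∈ (Finset.range (p - 1)).attach, g i.1 i.2) :=
    ideal_notMem_prod S.hM fun i _ => ⟨S.ring_R1 (hg _ _), hgu _ _⟩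
  have hur : MemLocalRing M (∏ i ∈ (Finset.range (p - 1)).attach, g i.1 i.2) :=
    ring_prod S.hM fun i _ => S.ring_R1 (hg _ _)
  refine ⟨(-1) ^ (p - 1) * y * (∏ i ∈ (Finset.range (p - 1)).attach, g i.1 i.2)⁻¹,
    ring_mul S.hM (ring_mul S.hM (ring_pow S.hM (ring_neg (ring_one S.hM)) _) hy) (ring_inv S.hM hur hu), ?_⟩
  have hne : (∏ i ∈ (Finset.range (p - 1)).attach, g i.1 i.2) ≠ 0 := S.ne_zero_of_unit hu
  field_simp
  linear_combination y * hprod

/-- Every nonzero element is a power of the uniformizer times a unit. -/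
theorem exists_decomp {x : ℂ} (hx : S.Un x) (h0 : x ≠ 0) :
    ∃ (k : ℕ) (u : ℂ), S.Un u ∧ ¬ MemLocalIdeal M u ∧ x = S.lam ^ k * u := by
  by_contra hne
  push Not at hne
  have key : ∀ k, ∃ y, S.Un y ∧ x = S.lam ^ k * y := by
    intro k
    induction k with
    | zero => exact ⟨x, hx, by simp⟩
    | succ k ih =>
      obtain ⟨y, hy, e⟩ := ih
      have hI : MemLocalIdeal M y := not_not.1 fun h => hne k y hy h e
      obtain ⟨z, hz, rfl⟩ := Un.div_lam S hy hI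
      exact ⟨z, hz, by rw [e, pow_succ, mul_assoc]⟩
  obtain ⟨a, ha, c, hc, hcu, e⟩ := hx
  have ha0 : a ≠ 0 := e ▸ mul_ne_zero h0 (S.ne_zero_of_unit hcu)
  obtain ⟨m, hm⟩ := bound S.hM (S.isIntegral_R1 ha) ha0
  obtain ⟨w, hw, hpw⟩ := S.p_eq
  obtain ⟨d, hd⟩ : ∃ d : ℕ, ∀ y, MemLocalRing M y → ∃ y', MemLocalRing M y' ∧ S.lam ^ d * y = p * y' :=
    ⟨p - 1, fun _ hy => S.lam_pow hy⟩
  obtain ⟨y, hy, hxy⟩ := key (d * m)
  have hpow : ∀ (m : ℕ) (y : ℂ), MemLocalRing M y →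
      ∃ y', MemLocalRing M y' ∧ S.lam ^ (d * m) * y = (p : ℂ) ^ m * y' := by
    intro m
    induction m with
    | zero => intro y hy; exact ⟨y, hy, by simp⟩
    | succ m ih =>
      intro y hy
      obtain ⟨y', hy', e1⟩ := hd y hy
      obtain ⟨z, hz, e2⟩ := ih _ hy'
      exact ⟨z, hz, by rw [mul_add, mul_one, pow_add, mul_assoc, e1, mul_left_comm, e2, pow_succ']; ring⟩
  obtain ⟨y', hy', e'⟩ := hpow m _ (ring_mul S.hM (Un.ring S hy) (S.ring_R0 hc))
  exact hm ⟨y', hy', by rw [← e, hxy, mul_assoc, e']⟩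

end Sys

end Cfsg.Agent.Char.Stem
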