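import Cfsg.Agent.Lib.Char.Stem.Vals

/-!
The corner of a primitive idempotent in the image of the integral group algebra in one irreducible
representation: divisibility by powers of the uniformizer, elements with rational values, and the
dichotomy between invertible and residually nilpotent elements read on the trace.
-/

set_option autoImplicit false
set_option linter.unusedSectionVars false
set_option linter.style.haveILetI false

namespace Cfsg.Agent.Char.Stem

open Cfsg Cfsg.Agent.Block Cfsg.Agent.Char.Spec Cfsg.Agent.Char.BP Cfsg.Agent.Char.Res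
  Cfsg.Agent.Char.Corner Cfsg.Agent.Char.Decomp

universe u

variable {G : Type u} [Group G] [Fintype G] [DecidableEq G] {p : ℕ} {M : Ideal AlgInt} [hp : Fact p.Prime]

/-- Divisibility by a power in the local ring of all algebraic numbers. -/
def Dv (M : Ideal AlgInt) (π : ℂ) (k : ℕ) (y : ℂ) : Prop :=
  ∃ z, MemLocalRing M z ∧ y = π ^ k * z

/-- Rational values: in the local ring and fixed by the automorphisms fixing the character. -/
def Rat (S : Sys p M) (χ : IrrCharacter G) (y : ℂ) : Prop := S.Un y ∧ Fix S χ y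

/-- Rational coefficients. -/
def RatA (S : Sys p M) (χ : IrrCharacter G) (r : MonoidAlgebra ℂ G) : Prop :=
  ∀ g, Rat S χ (r.coeff g)

theorem Dv.zero (hM : IsPModular p M) {π : ℂ} {k : ℕ} : Dv M π k 0 :=
  ⟨0, ring_zero hM, by ring⟩

theorem Dv.add (hM : IsPModular p M) {π : ℂ} {k : ℕ} {x y : ℂ} (hx : Dv M π k x) (hy : Dv M π k y) :
    Dv M π k (x + y) := by
  obtain ⟨a, ha, rfl⟩ := hx
  obtain ⟨b, hb, rfl⟩ := hy
  exact ⟨a + b, ring_add hM ha hb, by ring⟩

theorem Dv.neg {π : ℂ} {k : ℕ} {x : ℂ} (hx : Dv M π k x) : Dv M π k (-x) := by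
  obtain ⟨a, ha, rfl⟩ := hx
  exact ⟨-a, ring_neg ha, by ring⟩

theorem Dv.sub (hM : IsPModular p M) {π : ℂ} {k : ℕ} {x y : ℂ} (hx : Dv M π k x) (hy : Dv M π k y) :
    Dv M π k (x - y) := by
  rw [sub_eq_add_neg]
  exact hx.add hM hy.neg

theorem Dv.comm {π : ℂ} {k : ℕ} {x y : ℂ} (h : Dv M π k (x - y)) : Dv M π k (y - x) := by
  simpa using h.neg

theorem Dv.mul_ring (hM : IsPModular p M) {π : ℂ} {k : ℕ} {x y : ℂ} (hx : Dv M π k x)
    (hy : MemLocalRing M y) : Dv M π k (x * y) := by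
  obtain ⟨a, ha, rfl⟩ := hx
  exact ⟨a * y, ring_mul hM ha hy, by ring⟩

theorem Dv.ring_mul_left (hM : IsPModular p M) {π : ℂ} {k : ℕ} {x y : ℂ} (hy : MemLocalRing M y)
    (hx : Dv M π k x) : Dv M π k (y * x) := by
  rw [mul_comm]
  exact hx.mul_ring hM hy

theorem Dv.mul (hM : IsPModular p M) {π : ℂ} {k l : ℕ} {x y : ℂ} (hx : Dv M π k x) (hy : Dv M π l y) :
    Dv M π (k + l) (x * y) := by
  obtain ⟨a, ha, rfl⟩ := hx
  obtain ⟨b, hb, rfl⟩ := hy
  exact ⟨a * b, Block.ring_mul hM ha hb, by ring⟩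

theorem Dv.sum (hM : IsPModular p M) {π : ℂ} {k : ℕ} {ι : Type*} {s : Finset ι} {f : ι → ℂ}
    (h : ∀ i ∈ s, Dv M π k (f i)) : Dv M π k (∑ i ∈ s, f i) :=
  Finset.sum_induction f _ (fun _ _ => Dv.add hM) (Dv.zero hM) h

theorem Dv.ring (hM : IsPModular p M) {π : ℂ} (hπ : MemLocalRing M π) {k : ℕ} {x : ℂ}
    (hx : Dv M π k x) : MemLocalRing M x := by
  obtain ⟨a, ha, rfl⟩ := hx
  exact ring_mul hM (ring_pow hM hπ k) ha

theorem Dv.mono (hM : IsPModular p M) {π : ℂ} (hπ : MemLocalRing M π) {k l : ℕ} (hlk : l ≤ k) {x : ℂ}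
    (hx : Dv M π k x) : Dv M π l x := by
  obtain ⟨a, ha, rfl⟩ := hx
  exact ⟨π ^ (k - l) * a, ring_mul hM (ring_pow hM hπ _) ha, by
    rw [← mul_assoc, ← pow_add, Nat.add_sub_cancel' hlk]⟩

theorem Dv.ideal (hM : IsPModular p M) {π : ℂ} (hπ : MemLocalIdeal M π) {x : ℂ}
    (hx : Dv M π 1 x) : MemLocalIdeal M x := by
  obtain ⟨a, ha, rfl⟩ := hx
  rw [pow_one]
  exact ideal_mul_right hM hπ ha

variable {S : Sys p M} {χ : IrrCharacter G}

theorem Rat.add {x y : ℂ} (hx : Rat S χ x) (hy : Rat S χ y) : Rat S χ (x + y) :=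
  ⟨(S.U).add_mem hx.1 hy.1, fun j hj => by rw [map_add, hx.2 j hj, hy.2 j hj]⟩

theorem Rat.sub {x y : ℂ} (hx : Rat S χ x) (hy : Rat S χ y) : Rat S χ (x - y) :=
  ⟨(S.U).sub_mem hx.1 hy.1, hx.2.sub hy.2⟩

theorem Rat.mul {x y : ℂ} (hx : Rat S χ x) (hy : Rat S χ y) : Rat S χ (x * y) :=
  ⟨Sys.Un.mul S hx.1 hy.1, hx.2.mul hy.2⟩

theorem Rat.of_un0 {x : ℂ} (hx : S.Un0 x) : Rat S χ x := ⟨Sys.Un0.un S hx, Fix.of_un0 hx⟩

theorem Rat.sum {ι : Type*} {s : Finset ι} {f : ι → ℂ} (h : ∀ i ∈ s, Rat S χ (f i)) :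
    Rat S χ (∑ i ∈ s, f i) :=
  Finset.sum_induction f _ (fun _ _ => Rat.add) (Rat.of_un0 (S.U0).zero_mem) h

theorem Rat.value (hc : Nat.card G ∣ p * S.N) (g : G) : Rat S χ ((χ : G → ℂ) g) :=
  ⟨value_un hc g, fun _ hj => congrArg (fun ψ : IrrCharacter G => (ψ : G → ℂ) g) hj⟩

theorem un0_inv_natCast {d : ℕ} (hd : ¬ p ∣ d) : S.Un0 ((d : ℂ)⁻¹) :=
  ⟨1, one_mem _, (d : ℂ), natCast_mem _ _, fun h => hd ((ideal_natCast_iff S.hM d).1 h),
    inv_mul_cancel₀ (Nat.cast_ne_zero.2 fun e => hd (e ▸ dvd_zero p))⟩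

theorem RatA.of_co {r : MonoidAlgebra ℂ G} (hr : Co S r) : RatA S χ r := fun g => Rat.of_un0 (hr g)

theorem RatA.sub {r t : MonoidAlgebra ℂ G} (hr : RatA S χ r) (ht : RatA S χ t) :
    RatA S χ (r - t) := fun g => by
  rw [MonoidAlgebra.coeff_sub, Finsupp.sub_apply]
  exact (hr g).sub (ht g)

theorem RatA.smul {c : ℂ} (hc : Rat S χ c) {r : MonoidAlgebra ℂ G} (hr : RatA S χ r) :
    RatA S χ (c • r) := fun g => by
  rw [MonoidAlgebra.coeff_smul, Finsupp.smul_apply, smul_eq_mul]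
  exact hc.mul (hr g)

theorem RatA.mul {r t : MonoidAlgebra ℂ G} (hr : RatA S χ r) (ht : RatA S χ t) :
    RatA S χ (r * t) := fun g => by
  rw [coeff_mul_apply]
  exact Rat.sum fun h _ => (hr _).mul (ht _)

theorem RatA.ring {r : MonoidAlgebra ℂ G} (hr : RatA S χ r) : AlgRing M r :=
  fun g => Sys.Un.ring S (hr g).1

theorem RatA.sgl (g : G) : RatA S χ (sgl g : MonoidAlgebra ℂ G) := RatA.of_co (Co.single S g)

theorem RatA.ev (hc : Nat.card G ∣ p * S.N) {r : MonoidAlgebra ℂ G} (hr : RatA S χ r) :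
    Rat S χ (Spec.ev (χ : G → ℂ) r) :=
  Rat.sum fun g _ => (hr g).mul (Rat.value hc g)

/-! ### Valuations -/

variable {π : ℂ} (U : Unif S χ π)
include U

theorem Unif.ring : MemLocalRing M π := Sys.Un.ring S U.un

theorem Unif.rat : Rat S χ π := ⟨U.un, U.fix⟩

theorem Unif.dv_p {y : ℂ} (hy : MemLocalRing M y) (k : ℕ) : Dv M π k ((p : ℂ) ^ k * y) := by
  obtain ⟨z, hz, e⟩ := U.div_p
  exact ⟨z ^ k * y, ring_mul S.hM (ring_pow S.hM (Sys.Un.ring S hz) k) hy, by rw [e, mul_pow, mul_assoc]⟩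

theorem Unif.dv_one {x : ℂ} (hx : Rat S χ x) (hI : MemLocalIdeal M x) :
    ∃ z, Rat S χ z ∧ x = π * z := by
  obtain ⟨z, hz, hf, e⟩ := U.div x hx.1 hx.2 hI
  exact ⟨z, ⟨hz, hf⟩, e⟩

theorem Unif.rat_div : ∀ (k : ℕ) {x : ℂ}, Rat S χ x → Dv M π k x → ∃ z, Rat S χ z ∧ x = π ^ k * z
  | 0, x, hx, _ => ⟨x, hx, by simp⟩
  | k + 1, x, hx, ⟨a, ha, e⟩ => by
    have hI : MemLocalIdeal M x := by
      rw [e, pow_succ', mul_assoc]
      exact ideal_mul_right S.hM U.mem (ring_mul S.hM (ring_pow S.hM U.ring k) ha)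
    obtain ⟨z, hz, e'⟩ := U.dv_one hx hI
    obtain ⟨w, hw, rfl⟩ := rat_div k hz ⟨a, ha, mul_left_cancel₀ U.ne (by rw [← e', e]; ring)⟩
    exact ⟨w, hw, by rw [e']; ring⟩

/-- An element close to a rational one has an exact valuation or is divisible once more. -/
theorem Unif.lift {k : ℕ} {x y : ℂ} (hx : Rat S χ x) (hxy : Dv M π (k + 1) (y - x))
    (hy : Dv M π k y) :
    Dv M π (k + 1) y ∨ ∃ z, MemLocalRing M z ∧ ¬ MemLocalIdeal M z ∧ y = π ^ k * z := by
  have hxk : Dv M π k x := by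
    simpa using hy.sub S.hM (hxy.mono S.hM U.ring k.le_succ)
  obtain ⟨z, hz, e⟩ := U.rat_div k hx hxk
  obtain ⟨w, hw, e'⟩ := hxy
  by_cases hI : MemLocalIdeal M z
  · left
    obtain ⟨z', hz', rfl⟩ := U.dv_one hz hI
    exact ⟨z' + w, ring_add S.hM (Sys.Un.ring S hz'.1) hw, by linear_combination e' + e⟩
  · right
    refine ⟨z + π * w, ring_add S.hM (Sys.Un.ring S hz.1) (ring_mul S.hM U.ring hw), fun h => hI ?_,
      by linear_combination e' + e⟩
    simpa using ideal_sub S.hM h (ideal_mul_right S.hM U.mem hw)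

theorem Unif.exact {k : ℕ} {z : ℂ} (hz : ¬ MemLocalIdeal M z) : ¬ Dv M π (k + 1) (π ^ k * z) := by
  rintro ⟨w, hw, e⟩
  refine hz ?_
  rw [show z = π * w from mul_left_cancel₀ (pow_ne_zero k U.ne) (by rw [e]; ring)]
  exact ideal_mul_right S.hM U.mem hw

omit U

/-! ### The frame -/

/-- An idempotent with a rational approximation and a representation affording the character. -/
structure Frame (S : Sys p M) (χ : IrrCharacter G) (π : ℂ) (n : ℕ)
    (Φ : MonoidAlgebra ℂ G →ₐ[ℂ] Matrix (Fin n) (Fin n) ℂ) (e x : MonoidAlgebra ℂ G) : Prop where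
  cfg : Cfg S χ
  unif : Unif S χ π
  aff : Afford χ n Φ
  pr : Pr M e
  co : Co S x
  near : Near M p 6 e x

variable {n : ℕ} {Φ : MonoidAlgebra ℂ G →ₐ[ℂ] Matrix (Fin n) (Fin n) ℂ} {e x : MonoidAlgebra ℂ G}

theorem near_dv (U : Unif S χ π) {k : ℕ} {a b : MonoidAlgebra ℂ G} (h : Near M p k a b) :
    Dv M π k (ev (χ : G → ℂ) a - ev (χ : G → ℂ) b) := by
  obtain ⟨y, hy, e⟩ := h.ev S χ
  rw [e, add_sub_cancel_left]
  exact U.dv_p hy k

theorem Afford.ev_comm (A : Afford χ n Φ) (a b : MonoidAlgebra ℂ G) :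
    ev (χ : G → ℂ) (a * b) = ev (χ : G → ℂ) (b * a) :=
  ev_mul_comm (IsIrr.classFun χ.2) a b

/-- The sum of the conjugates is a scalar. -/
theorem Afford.conj_sum (A : Afford χ n Φ) (r : MonoidAlgebra ℂ G) :
    ∑ h : G, Φ (sgl h⁻¹) * Φ r * Φ (sgl h) =
      ((Nat.card G : ℂ) / (χ : G → ℂ) 1 * ev (χ : G → ℂ) r) • (1 : Matrix (Fin n) (Fin n) ℂ) := by
  have hL : ∑ h : G, Φ (sgl h⁻¹) * Φ r * Φ (sgl h) = Φ (∑ h : G, sgl h⁻¹ * r * sgl h) := by
    simp only [map_sum, map_mul]
  rw [hL, ← map_one Φ, ← map_smul]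
  refine A.eq fun g => ?_
  rw [Finset.sum_mul, ev_sum_left, smul_mul_assoc, ev_smul_left, one_mul, ev_sgl]
  have hterm : ∀ h : G, ev (χ : G → ℂ) (sgl h⁻¹ * r * sgl h * sgl g) =
      ∑ k : G, r.coeff k * (χ : G → ℂ) (h⁻¹ * k * h * g) := by
    intro h
    conv_lhs => rw [← sum_single r, Finset.mul_sum, Finset.sum_mul, Finset.sum_mul]
    rw [ev_sum_left]
    refine Finset.sum_congr rfl fun k _ => ?_
    simp only [mul_smul_comm, smul_mul_assoc, ev_smul_left, MonoidAlgebra.single_mul_single, one_mul,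
      ev_sgl]
  rw [Finset.sum_congr rfl fun h _ => hterm h, Finset.sum_comm, ev, Finset.mul_sum, Finset.sum_mul]
  refine Finset.sum_congr rfl fun k _ => ?_
  rw [← Finset.mul_sum, Fintype.sum_equiv (Equiv.inv G) _ (fun a => (χ : G → ℂ) (a * k * a⁻¹ * g))
    (fun h => by simp), sum_conj_apply χ.2]
  ring

/-- An element with a power in the ideal has its value in the ideal. -/
theorem ev_ideal_of_pow (S : Sys p M) (A : Afford χ n Φ) {a : MonoidAlgebra ℂ G} (ha : AlgRing M a) {N : ℕ}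
    (hN : AlgIdeal M (a ^ N)) : MemLocalIdeal M (ev (χ : G → ℂ) a) := by
  classical
  have hM := S.hM
  rw [← A.trace, Matrix.trace_eq_sum_roots_charpoly]
  refine Multiset.sum_induction _ _ (fun _ _ => ideal_add hM) (ideal_zero hM) fun μ hμ => ?_
  haveI : Nonempty (Fin n) := by
    rcases Nat.eq_zero_or_pos n with rfl | h
    · rw [Matrix.charpoly_isEmpty, Polynomial.roots_one] at hμ
      exact absurd hμ (Multiset.notMem_zero μ)
    · exact ⟨⟨0, h⟩⟩
  have hspec : μ ∈ spectrum ℂ (Φ a) := Matrix.mem_spectrum_iff_isRoot_charpoly.2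
    ((Polynomial.mem_roots (Matrix.charpoly_monic _).ne_zero).1 hμ)
  have hring : MemLocalRing M μ := by
    have hmap : (leftMat a).charpoly.map (RingHom.id ℂ) = (leftMat a).charpoly := Polynomial.map_id
    refine ring_of_isRoot hM (Matrix.charpoly_monic (leftMat a)) (fun i => ?_) ?_
    · have hlift : ∀ s t, (leftMat a) s t ∈ localRing hM := fun s t => ha.matRing s t
      let B : Matrix G G (localRing hM) := fun s t => ⟨_, hlift s t⟩
      have hB : (localRing hM).subtype.mapMatrix B = leftMat a := by ext s t; rfl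
      rw [← hB, RingHom.mapMatrix_apply, Matrix.charpoly_map, Polynomial.coeff_map]
      exact (B.charpoly.coeff i).2
    · have h0 : Polynomial.aeval a (leftMat a).charpoly = 0 := leftMat_injective (by
        rw [map_zero, ← Polynomial.aeval_algHom_apply]
        exact Matrix.aeval_self_charpoly _)
      have h1 : Polynomial.aeval (Φ a) (leftMat a).charpoly = 0 := by
        rw [Polynomial.aeval_algHom_apply, h0, map_zero]
      have h2 := spectrum.subset_polynomial_aeval (Φ a) (leftMat a).charpoly ⟨μ, hspec, rfl⟩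
      rw [h1, spectrum.zero_eq] at h2
      · exact h2
  by_contra hI
  have hu : ¬ MemLocalIdeal M (μ ^ N) := fun h => hI (ideal_of_pow hM hring N h)
  have hne : μ ^ N ≠ 0 := S.ne_zero_of_unit hu
  have hr : AlgRing M ((μ ^ N)⁻¹ • a ^ N) :=
    AlgRing.smul hM (ring_inv hM (ring_pow hM hring N) hu) (AlgRing.pow hM ha N)
  obtain ⟨v, -, huv, hvu⟩ := exists_inverse hM (AlgRing.sub hM (AlgRing.one hM) hr) (by
    intro g
    rw [sub_sub_cancel_left, MonoidAlgebra.coeff_neg, Finsupp.neg_apply, MonoidAlgebra.coeff_smul,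
      Finsupp.smul_apply, smul_eq_mul]
    exact ideal_neg (ideal_mul_left hM (ring_inv hM (ring_pow hM hring N) hu) (hN g)))
  have hμN : μ ^ N ∈ spectrum ℂ ((Φ a) ^ N) := spectrum.pow_mem_pow (Φ a) N hspec
  rw [spectrum.mem_iff] at hμN
  refine hμN ?_
  have h3 : algebraMap ℂ (Matrix (Fin n) (Fin n) ℂ) (μ ^ N) - Φ a ^ N =
      μ ^ N • Φ (1 - (μ ^ N)⁻¹ • a ^ N) := by
    rw [map_sub, map_one, map_smul, map_pow Φ, smul_sub, smul_inv_smul₀ hne, Algebra.algebraMap_eq_smul_one]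
  rw [h3]
  have h4 : IsUnit (Φ (1 - (μ ^ N)⁻¹ • a ^ N)) :=
    ⟨⟨_, Φ v, by rw [← map_mul, huv, map_one], by rw [← map_mul, hvu, map_one]⟩, rfl⟩
  rw [Algebra.smul_def]
  exact ((IsUnit.mk0 _ hne).map (algebraMap ℂ _)).mul h4

/-- An element of the corner is invertible there unless its value lies in the ideal. -/
theorem corner_inv (S : Sys p M) (A : Afford χ n Φ) (he : Pr M e) {b : MonoidAlgebra ℂ G} (hb : AlgRing M b)
    (hbe : e * b * e = b) (hu : ¬ MemLocalIdeal M (ev (χ : G → ℂ) b)) :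
    ∃ w, AlgRing M w ∧ e * w * e = w ∧ b * w = e ∧ w * b = e := by
  classical
  have hM := S.hM
  have heb : e * b = b := by rw [← hbe, ← mul_assoc, ← mul_assoc, he.idem]
  have hbe' : b * e = b := by rw [← hbe, mul_assoc, he.idem]
  rcases prim_dichotomy hM he.1 (Res.fx_bot hb) heb hbe' with ⟨y, hy, hye, hxy⟩ | ⟨N, hN⟩
  · refine ⟨e * y * e, (he.ring.mul hM hy.1).mul hM he.ring,
      by simp only [← mul_assoc, he.idem]; simp only [mul_assoc, he.idem], ?_, ?_⟩
    · rw [show b * (e * y * e) = b * e * y * e by simp only [mul_assoc], hbe', hxy]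
    · have h1 : (b + (1 - e)) * (e * y * e + (1 - e)) = 1 := by
        have h2 : b * (e * y * e) = e := by
          rw [show b * (e * y * e) = b * e * y * e by simp only [mul_assoc], hbe', hxy]
        have h3 : (1 - e) * (e * y * e) = 0 := by
          rw [sub_mul, one_mul, show e * (e * y * e) = e * e * y * e by simp only [mul_assoc],
            he.idem, sub_self]
        rw [add_mul, mul_add, mul_add, h2, mul_sub, mul_one, hbe', sub_self, h3, one_sub_idem he.idem]
        abel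
      have h4 : (e * y * e + (1 - e)) * (b + (1 - e)) = 1 := leftMat_injective (by
        have := congrArg leftMat h1
        rw [map_mul, map_one] at this ⊢
        exact mul_eq_one_comm.1 this)
      have h5 := congrArg (fun t => e * t * e) h4
      simp only [mul_one, he.idem] at h5
      refine Eq.trans ?_ h5
      have h6 : e * (e * y * e + (1 - e)) = e * y * e := by
        rw [mul_add, mul_sub, mul_one, he.idem, sub_self, add_zero,
          show e * (e * y * e) = e * e * y * e by simp only [mul_assoc], he.idem]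
      have h7 : (b + (1 - e)) * e = b := by
        rw [add_mul, sub_mul, one_mul, he.idem, sub_self, add_zero, hbe']
      calc e * y * e * b = e * (e * y * e + (1 - e)) * ((b + (1 - e)) * e) := by rw [h6, h7]
        _ = _ := by simp only [mul_assoc]
  · exfalso
    refine hu ?_
    rcases N with _ | N
    · exact absurd (idem_eq_zero hM (by simpa using hN) he.idem) he.2
    refine ev_ideal_of_pow S A hb (N := N + 1) ?_
    rwa [pow_succ, mul_assoc, hbe', ← pow_succ] at hN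

/-- Residually, an element of the corner is a scalar plus a nilpotent. -/
theorem corner_residue (S : Sys p M) (A : Afford χ n Φ) (he : Pr M e) {b : MonoidAlgebra ℂ G} (hb : AlgRing M b)
    (hbe : e * b * e = b) :
    letI := resInst S.hM
    ∃ c, MemLocalRing M c ∧ MemLocalIdeal M (ev (χ : G → ℂ) b - c * ev (χ : G → ℂ) e) ∧
      (MemLocalIdeal M c →
        IsNilpotent (proj (K := ResField S.hM) (redA_idem S.hM he.ring he.idem) (redA S.hM b))) := by
  classical
  letI := resInst S.hM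
  have hM := S.hM
  obtain ⟨hnt, hloc⟩ := corner_scalar hM he
  have hE := redA_idem hM he.ring he.idem
  obtain ⟨c₀, hc₀⟩ := hloc (proj (K := ResField hM) hE (redA hM b))
  obtain ⟨c, hc, hce⟩ : ∃ c, MemLocalRing M c ∧ red hM c = c₀ := red_surjective hM c₀
  set a := b - c • e with ha
  have har : AlgRing M a := AlgRing.sub hM hb (AlgRing.smul hM hc he.ring)
  have hae : a * e = a := by
    rw [ha, sub_mul, smul_mul_assoc, he.idem,
      show b * e = b by rw [← hbe, mul_assoc, he.idem]]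
  have hea : e * a = a := by
    rw [ha, mul_sub, mul_smul_comm, he.idem,
      show e * b = b by rw [← hbe, ← mul_assoc, ← mul_assoc, he.idem]]
  set y := proj (K := ResField hM) hE (redA hM b) - algebraMap (ResField hM) hE.Corner c₀ with hy
  have hyv : y.1 = redA hM a := by
    show redA hM e * redA hM b * redA hM e - c₀ • redA hM e = _
    rw [← redA_mul hM he.ring hb, ← redA_mul hM (he.ring.mul hM hb) he.ring, hbe, ← hce,
      ← redA_smul hM hc he.ring, ← redA_sub hM hb (AlgRing.smul hM hc he.ring)]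
  have hpow : ∀ m : ℕ, (y ^ (m + 1)).1 = redA hM (a ^ (m + 1)) := by
    intro m
    induction m with
    | zero => rw [pow_one, pow_one, hyv]
    | succ m ih =>
      rw [pow_succ, pow_succ a, redA_mul hM (AlgRing.pow hM har _) har]
      show (y ^ (m + 1)).1 * y.1 = _
      rw [ih, hyv]
  obtain ⟨N, hN⟩ := hc₀
  have hI : AlgIdeal M (a ^ (N + 1)) := by
    rw [← redA_eq_zero hM (AlgRing.pow hM har _), ← hpow, pow_succ, hN, zero_mul]
    rfl
  refine ⟨c, hc, ?_, fun hcI => ?_⟩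
  · have := ev_ideal_of_pow S A har hI
    rwa [ha, ev_sub, ev_smul_left] at this
  · have h0 : c₀ = 0 := by rw [← hce, (red_eq_zero hM hc).2 hcI]
    rw [show proj (K := ResField hM) hE (redA hM b) = y by rw [hy, h0, map_zero, sub_zero]]
    exact ⟨N, hN⟩

end Cfsg.Agent.Char.Stem
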