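import Cfsg.Agent.Lib.Char.Stem.Corner
import Mathlib.LinearAlgebra.Trace

/-!
The value of the character on a primitive idempotent is a natural number prime to `p`, unless it is
zero: otherwise the functional of the idempotent has all its values in the maximal ideal and the
element it gives leads to a vanishing sum over the singular elements.
-/

set_option autoImplicit false
set_option linter.unusedSectionVars false
set_option linter.style.haveILetI false

namespace Cfsg.Agent.Char.Stem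

open Cfsg Cfsg.Agent.Block Cfsg.Agent.Char.Spec Cfsg.Agent.Char.BP Cfsg.Agent.Char.Res
  Cfsg.Agent.Char.Corner Cfsg.Agent.Char.Decomp
open scoped ComplexConjugate

universe u

variable {G : Type u} [Group G] [Fintype G] [DecidableEq G] {p : ℕ} {M : Ideal AlgInt} [hp : Fact p.Prime]
variable {S : Sys p M} {χ : IrrCharacter G} {π : ℂ} {n : ℕ}
  {Φ : MonoidAlgebra ℂ G →ₐ[ℂ] Matrix (Fin n) (Fin n) ℂ} {e x : MonoidAlgebra ℂ G}

theorem Near.add (hM : IsPModular p M) {k : ℕ} {a b a' b' : MonoidAlgebra ℂ G}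
    (h : Near M p k a b) (h' : Near M p k a' b') : Near M p k (a + a') (b + b') := by
  obtain ⟨z, hz, rfl⟩ := h
  obtain ⟨z', hz', rfl⟩ := h'
  exact ⟨z + z', AlgRing.add hM hz hz', by rw [smul_add]; abel⟩

theorem Near.sub (hM : IsPModular p M) {k : ℕ} {a b a' b' : MonoidAlgebra ℂ G}
    (h : Near M p k a b) (h' : Near M p k a' b') : Near M p k (a - a') (b - b') := by
  obtain ⟨z, hz, rfl⟩ := h
  obtain ⟨z', hz', rfl⟩ := h'
  exact ⟨z - z', AlgRing.sub hM hz hz', by rw [smul_sub]; abel⟩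

theorem Near.smul (hM : IsPModular p M) {k : ℕ} {a b : MonoidAlgebra ℂ G} {c : ℂ}
    (hc : MemLocalRing M c) (h : Near M p k a b) : Near M p k (c • a) (c • b) := by
  obtain ⟨z, hz, rfl⟩ := h
  exact ⟨c • z, AlgRing.smul hM hc hz, by rw [smul_add, smul_comm]⟩

theorem Frame.ring_x (F : Frame S χ π n Φ e x) : AlgRing M x := F.co.ring

theorem Frame.idem_map (F : Frame S χ π n Φ e x) : Φ e * Φ e = Φ e := by
  rw [← map_mul, F.pr.idem]

theorem Frame.near_sgl (F : Frame S χ π n Φ e x) (g : G) :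
    Near M p 6 (e * sgl g * e) (x * sgl g * x) :=
  ((F.near.mul S.hM (Near.refl S.hM 6 _) F.ring_x (AlgRing.single S.hM g)).mul S.hM F.near
    (F.ring_x.mul S.hM (AlgRing.single S.hM g)) F.ring_x)

theorem Frame.ev_sandwich (F : Frame S χ π n Φ e x) (a : MonoidAlgebra ℂ G) :
    ev (χ : G → ℂ) (e * a * e) = ev (χ : G → ℂ) (e * a) := by
  rw [F.aff.ev_comm, ← mul_assoc, F.pr.idem]

theorem Frame.dv_sgl (F : Frame S χ π n Φ e x) (g : G) :
    Dv M π 6 (ev (χ : G → ℂ) (x * sgl g * x) - ev (χ : G → ℂ) (x * sgl g)) := by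
  have h1 := near_dv (χ := χ) F.unif (F.near_sgl g)
  have h2 := near_dv (χ := χ) F.unif (F.near.mul S.hM (Near.refl S.hM 6 (sgl g)) F.ring_x
    (AlgRing.single S.hM g))
  rw [F.ev_sandwich] at h1
  simpa using h2.sub S.hM h1

/-- The value on an idempotent is a natural number. -/
theorem Frame.exists_nat (F : Frame S χ π n Φ e x) : ∃ d : ℕ, ev (χ : G → ℂ) e = d := by
  have hproj : LinearMap.IsProj (LinearMap.range (Matrix.toLin' (Φ e))) (Matrix.toLin' (Φ e)) :=
    ⟨fun v => LinearMap.mem_range_self _ v, fun v ⟨w, hw⟩ => by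
      rw [← hw, ← LinearMap.comp_apply, ← Matrix.toLin'_mul, F.idem_map]⟩
  refine ⟨Module.finrank ℂ (LinearMap.range (Matrix.toLin' (Φ e))), ?_⟩
  rw [← F.aff.trace, ← Matrix.trace_toLin'_eq, hproj.trace]

theorem σ_regular (hc : Nat.card G ∣ p * S.N) (j : (ZMod p)ˣ) {g : G} (hg : ¬ p ∣ orderOf g) :
    S.σ j ((χ : G → ℂ) g) = (χ : G → ℂ) g := by
  obtain ⟨m, ρ, -, he⟩ := χ.2
  obtain ⟨b, c, -, hcr, hk⟩ := exists_rep_eigenbasis ρ g
  have h1 := hk 1
  simp only [pow_one] at h1
  refine S.σ_U0 j ?_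
  rw [← he, h1]
  refine (S.U0).sum_mem fun i _ => ?_
  have hci : c i ^ S.N = 1 := by
    obtain ⟨r, hr⟩ := ((hp.out.coprime_iff_not_dvd.2 hg).symm).dvd_of_dvd_mul_left
      ((orderOf_dvd_natCard g).trans hc)
    rw [hr, pow_mul, hcr, one_pow]
  haveI : NeZero S.N := ⟨S.N_pos.ne'⟩
  obtain ⟨k, -, hk'⟩ := S.prim_ω.eq_pow_of_pow_eq_one hci
  rw [← hk']
  exact (S.U0).pow_mem (S.un0_of_mem S.ω_mem) k

theorem congr_one (hM : IsPModular p M) {g : G} (hg : g ^ p = 1) :
    MemLocalIdeal M ((χ : G → ℂ) g - (χ : G → ℂ) 1) := by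
  obtain ⟨m, ρ, -, he⟩ := χ.2
  obtain ⟨b, c, -, hcr, hk⟩ := exists_rep_eigenbasis ρ g
  have h1 := hk 1
  have h0 := hk 0
  simp only [pow_one, pow_zero] at h1 h0
  rw [← he, h1, h0, ← Finset.sum_sub_distrib]
  refine ideal_sum hM fun i _ => ideal_root_sub_one hM (k := 1) ?_
  obtain ⟨r, hr⟩ := orderOf_dvd_of_pow_eq_one hg
  rw [pow_one, hr, pow_mul, hcr, one_pow]

theorem ev_fun_sub (f f' : G → ℂ) (a : MonoidAlgebra ℂ G) : ev (f - f') a = ev f a - ev f' a := by
  simp only [ev, Pi.sub_apply, mul_sub, Finset.sum_sub_distrib]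

theorem ev_fun_sum {ι : Type*} (s : Finset ι) (w : ι → ℂ) (f : ι → G → ℂ) (a : MonoidAlgebra ℂ G) :
    ev (∑ i ∈ s, w i • f i) a = ∑ i ∈ s, w i * ev (f i) a := by
  simp only [ev, Finset.sum_apply, Pi.smul_apply, smul_eq_mul, Finset.mul_sum]
  rw [Finset.sum_comm]
  exact Finset.sum_congr rfl fun i _ => Finset.sum_congr rfl fun g _ => by ring

open Classical in
/-- When every singular element has order `p` and their number is prime to `p`, the value on a
primitive idempotent is prime to `p` or zero. -/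
theorem Frame.not_dvd (F : Frame S χ π n Φ e x) (hord : ∀ g : G, p ∣ orderOf g → g ^ p = 1)
    (hnum : ¬ p ∣ (Finset.univ.filter fun g : G => p ∣ orderOf g).card)
    {d : ℕ} (hd : ev (χ : G → ℂ) e = d) (hd0 : d ≠ 0) : ¬ p ∣ d := by
  intro hpd
  have hM := S.hM
  have hdI : MemLocalIdeal M (d : ℂ) := (ideal_natCast_iff hM d).2 hpd
  have hall : ∀ b, AlgRing M b → e * b * e = b → MemLocalIdeal M (ev (χ : G → ℂ) b) := by
    intro b hb hbe
    obtain ⟨c, hc, hcd, -⟩ := corner_residue S F.aff F.pr hb hbe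
    rw [hd] at hcd
    exact (ideal_congr hM hcd).2 (ideal_mul_left hM hc hdI)
  have hx : ∀ h : G, MemLocalIdeal M (ev (χ : G → ℂ) (x * sgl h)) := by
    intro h
    have h1 := hall (e * sgl h * e) ((F.pr.ring.mul hM (AlgRing.single hM h)).mul hM F.pr.ring)
      (by simp only [← mul_assoc, F.pr.idem]; simp only [mul_assoc, F.pr.idem])
    rw [F.ev_sandwich] at h1
    have h2 := near_dv (χ := χ) F.unif (F.near.mul hM (Near.refl hM 6 (sgl h)) F.ring_x
      (AlgRing.single hM h))
    exact (ideal_congr hM ((h2.mono hM F.unif.ring (by omega : 1 ≤ 6)).ideal hM F.unif.mem)).1 h1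
  have hxr : ∀ h : G, Rat S χ (ev (χ : G → ℂ) (x * sgl h)) := fun h =>
    RatA.ev F.cfg.dvd ((RatA.of_co F.co).mul (RatA.sgl h))
  obtain ⟨W, hW, hWχ, hWout, -⟩ := trick F.cfg (r := x) fun h => ⟨(hxr h).1, (hxr h).2, hx h⟩
  have hΦW : Φ W = Φ x := F.aff.eq fun g => hWχ (sgl g)
  set w := e * W * e with hw
  have hwr : AlgRing M w := (F.pr.ring.mul hM hW).mul hM F.pr.ring
  have hew : e * w = w := by rw [hw, ← mul_assoc, ← mul_assoc, F.pr.idem]
  have hwe : w * e = w := by rw [hw, mul_assoc, F.pr.idem]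
  rcases prim_dichotomy hM F.pr.1 (Res.fx_bot hwr) hew hwe with ⟨y, -, -, hwy⟩ | ⟨N, hN⟩
  · -- the idempotent lives on the orbit of the character
    have hout : ∀ ψ : IrrCharacter G, (∀ j, tw S j χ ≠ ψ) → ev (ψ : G → ℂ) e = 0 := by
      intro ψ hψ
      have h1 : e = e * (W * (e * y * e)) := by
        conv_lhs => rw [← hwy, hw]
        simp only [mul_assoc]
      rw [h1, ev_mul_comm (IsIrr.classFun ψ.2), mul_assoc]
      exact hWout ψ hψ _
    set sing := Finset.univ.filter fun g : G => p ∣ orderOf g with hsing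
    have hinvmem : ∀ g : G, g ∈ sing ↔ g⁻¹ ∈ sing := fun g => by
      simp only [hsing, Finset.mem_filter, Finset.mem_univ, true_and, orderOf_inv]
    have hclass : IsClassFunction G (fun g : G => if g ∈ sing then (1 : ℂ) else 0) := fun g t => by
      have : orderOf (t * g * t⁻¹) = orderOf g := by
        rw [← MulAut.conj_apply, MulEquiv.orderOf_eq]
      simp only [hsing, Finset.mem_filter, Finset.mem_univ, true_and, this]
    set f : G → ℂ := fun g => if g ∈ sing then (1 : ℂ) else 0 with hf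
    have hfe : ev f e = 0 := ev_idem_eq_zero hM F.pr.ring F.pr.idem hclass fun g hg => by
      simp [hf, hsing, hg]
    have hdj : ∀ j, ev (tw S j χ : G → ℂ) e = d := by
      intro j
      have h1 : ev ((χ : G → ℂ) - (tw S j χ : G → ℂ)) e = 0 :=
        ev_idem_eq_zero hM F.pr.ring F.pr.idem (classFunction_sub (IsIrr.classFun χ.2)
          (IsIrr.classFun (tw S j χ).2)) fun g hg => by
            show (χ : G → ℂ) g - S.σ j ((χ : G → ℂ) g) = 0
            rw [σ_regular F.cfg.dvd j hg, sub_self]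
      rw [ev_fun_sub, hd, sub_eq_zero] at h1
      exact h1.symm
    have hsum : ∀ j, ∑ g ∈ sing, (tw S j χ : G → ℂ) g = ∑ g ∈ sing, (χ : G → ℂ) g := by
      intro j
      have htot : ∃ N : ℂ, S.σ j N = N ∧ ∑ g : G, (χ : G → ℂ) g = N := by
        refine ⟨(Nat.card G : ℂ) * if χ = trivialIrr G then 1 else 0, ?_, ?_⟩
        · split_ifs <;> simp
        · have h1 : classInner (χ : G → ℂ) (trivialIrr G : G → ℂ) =
              if χ = trivialIrr G then 1 else 0 := by
            split_ifs with h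
            · rw [h]; exact classInner_self_irr (trivialIrr G).2
            · exact classInner_irr_ne χ.2 (trivialIrr G).2 fun e => h (Subtype.ext e)
          rw [← h1, classInner, ← mul_assoc, mul_inv_cancel₀ (Nat.cast_ne_zero.2 Nat.card_pos.ne'),
            one_mul]
          exact Finset.sum_congr rfl fun g _ => by
            rw [show (trivialIrr G : G → ℂ) g = 1 from rfl, map_one, mul_one]
      obtain ⟨N, hN1, hN2⟩ := htot
      have h1 : ∀ ψ : G → ℂ, ∑ g ∈ sing, ψ g =
          ∑ g : G, ψ g - ∑ g ∈ Finset.univ.filter (fun g : G => ¬ p ∣ orderOf g), ψ g := fun ψ =>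
        eq_sub_of_add_eq (Finset.sum_filter_add_sum_filter_not _ _ _)
      rw [h1, h1]
      congr 1
      · show ∑ g : G, S.σ j ((χ : G → ℂ) g) = _
        rw [← map_sum, hN2, hN1]
      · exact Finset.sum_congr rfl fun g hg => σ_regular F.cfg.dvd j (Finset.mem_filter.1 hg).2
    set SS := ∑ g ∈ sing, (χ : G → ℂ) g with hSS
    set O := Finset.univ.image fun j : (ZMod p)ˣ => tw S j χ with hO
    have hzero : (O.card : ℂ) * ((Nat.card G : ℂ)⁻¹ * SS * d) = 0 := by
      rw [← hfe]
      conv_rhs => rw [classFunction_expansion hclass]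
      rw [ev_fun_sum, ← Finset.sum_subset (Finset.subset_univ O) fun ψ _ hψ => by
        rw [hout ψ fun j hj => hψ (Finset.mem_image.2 ⟨j, Finset.mem_univ _, hj⟩), mul_zero]]
      rw [Finset.sum_congr rfl (g := fun _ => (Nat.card G : ℂ)⁻¹ * SS * d) fun ψ hψ => ?_,
        Finset.sum_const, nsmul_eq_mul]
      obtain ⟨j, -, rfl⟩ := Finset.mem_image.1 hψ
      rw [hdj, classInner, ← hsum j]
      congr 2
      rw [Finset.sum_congr rfl (g := fun g => if g ∈ sing then conj ((tw S j χ : G → ℂ) g) else 0)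
        fun g _ => by split_ifs with h <;> simp [hf, h], Finset.sum_ite_mem, Finset.univ_inter]
      refine Finset.sum_equiv (Equiv.inv G) (fun g => hinvmem g) fun g _ => ?_
      rw [Equiv.inv_apply, IsChar.apply_inv (IsIrr.isCharacter (tw S j χ).2)]
    have hO0 : (O.card : ℂ) ≠ 0 := Nat.cast_ne_zero.2 (Finset.card_ne_zero.2
      ⟨_, Finset.mem_image.2 ⟨1, Finset.mem_univ _, rfl⟩⟩)
    have hSS0 : SS = 0 := by
      have h1 := (mul_eq_zero.1 hzero).resolve_left hO0
      rw [mul_eq_zero, mul_eq_zero] at h1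
      rcases h1 with (h1 | h1) | h1
      · exact absurd h1 (inv_ne_zero (Nat.cast_ne_zero.2 Nat.card_pos.ne'))
      · exact h1
      · exact absurd (Nat.cast_eq_zero.1 h1) hd0
    have hcong : MemLocalIdeal M (SS - ((sing.card * charDegree (χ : G → ℂ) : ℕ) : ℂ)) := by
      rw [Nat.cast_mul, ← charDeg_spec', ← nsmul_eq_mul, ← Finset.sum_const, hSS,
        ← Finset.sum_sub_distrib]
      exact ideal_sum hM fun g hg => congr_one hM (hord g (Finset.mem_filter.1 hg).2)
    rw [hSS0, zero_sub] at hcong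
    have := (ideal_natCast_iff hM (sing.card * charDegree (χ : G → ℂ))).1 (by simpa using ideal_neg hcong)
    exact ((Nat.Prime.dvd_mul hp.out).1 this).elim hnum F.cfg.deg
  · -- the idempotent is divisible by every power of `p`
    have hN' : AlgIdeal M (w ^ (N + 1)) := by
      have h1 := AlgIdeal.mul_left hM hwr hN
      rwa [← mul_assoc, ← pow_succ', pow_succ, mul_assoc, hwe] at h1
    obtain ⟨v, hv, huv, -⟩ := exists_inverse hM (AlgRing.sub hM (AlgRing.one hM)
      (AlgRing.pow hM hwr (N + 1))) (fun g => by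
        rw [sub_sub_cancel_left, MonoidAlgebra.coeff_neg, Finsupp.neg_apply]
        exact ideal_neg (hN' g))
    set Γ := ∑ i ∈ Finset.range (N + 1), w ^ i with hΓ
    have he : e = (e - w) * (Γ * v) := by
      have h2 : e - w = e * (1 - w) := by rw [mul_sub, mul_one, hew]
      rw [h2, mul_assoc, ← mul_assoc (1 - w), hΓ, mul_neg_geom_sum, huv, mul_one]
    obtain ⟨z, hz, hnear⟩ := F.near
    have hdiff : Φ (e - w) = Φ (((p : ℂ) ^ 6) • (e * z * e)) := by
      rw [hw, map_sub, map_mul, map_mul, hΦW, ← map_mul, ← map_mul, ← map_sub]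
      congr 1
      rw [← smul_mul_assoc, ← mul_smul_comm, show ((p : ℂ) ^ 6) • z = e - x by
        rw [hnear]; abel, mul_sub, sub_mul, F.pr.idem, F.pr.idem]
    set y := e * z * e * (Γ * v) with hy
    have hyr : AlgRing M y := ((F.pr.ring.mul hM hz).mul hM F.pr.ring).mul hM
      ((AlgRing.sum hM fun i _ => AlgRing.pow hM hwr i).mul hM hv)
    have hΦe : Φ e = ((p : ℂ) ^ 6) • Φ y := by
      conv_lhs => rw [he]
      rw [map_mul, hdiff, ← map_mul, smul_mul_assoc, map_smul]
    have hpow : ∀ m : ℕ, Φ e = ((p : ℂ) ^ (6 * (m + 1))) • Φ (y ^ (m + 1)) := by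
      intro m
      induction m with
      | zero => simpa using hΦe
      | succ m ih =>
        rw [← F.idem_map, map_pow, pow_succ (Φ y), ← map_pow]
        conv_lhs => arg 1; rw [ih]
        conv_lhs => arg 2; rw [hΦe]
        rw [smul_mul_smul_comm, ← pow_add]
        congr 2
    have h0 : ev (χ : G → ℂ) e = 0 := by
      refine F.unif.eq_zero (ev_ring S χ F.pr.ring) fun m => ?_
      rw [← F.aff.trace, hpow m, Matrix.trace_smul, smul_eq_mul, F.aff.trace]
      exact (F.unif.dv_p (ev_ring S χ (AlgRing.pow hM hyr _)) _).mono hM F.unif.ring (by omega)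
    rw [h0] at hd
    exact hd0 (Nat.cast_eq_zero.1 hd.symm)

end Cfsg.Agent.Char.Stem
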