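import Cfsg.Agent.Lib.Char.Stem.Degree
import Mathlib.LinearAlgebra.Matrix.Charpoly.Basic

/-!
Generators of the corner of a primitive idempotent whose value is prime to `p`: with rational
approximations, with values divisible by the uniformizer, and with all long products divisible by it.
-/

set_option autoImplicit false
set_option linter.unusedSectionVars false
set_option linter.style.haveILetI false

namespace Cfsg.Agent.Char.Stem

open Cfsg Cfsg.Agent.Block Cfsg.Agent.Char.Spec Cfsg.Agent.Char.BP Cfsg.Agent.Char.Res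
  Cfsg.Agent.Char.Corner Cfsg.Agent.Char.Decomp

universe u

variable {G : Type u} [Group G] [Fintype G] [DecidableEq G] {p : ℕ} {M : Ideal AlgInt} [hp : Fact p.Prime]
variable {S : Sys p M} {χ : IrrCharacter G} {π : ℂ} {n : ℕ}
  {Φ : MonoidAlgebra ℂ G →ₐ[ℂ] Matrix (Fin n) (Fin n) ℂ} {e x : MonoidAlgebra ℂ G} {d : ℕ}

/-- A frame with the value of the idempotent prime to `p`. -/
structure DFrame (S : Sys p M) (χ : IrrCharacter G) (π : ℂ) (n : ℕ)
    (Φ : MonoidAlgebra ℂ G →ₐ[ℂ] Matrix (Fin n) (Fin n) ℂ) (e x : MonoidAlgebra ℂ G) (d : ℕ) :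
    Prop extends Frame S χ π n Φ e x where
  value : ev (χ : G → ℂ) e = d
  coprime : ¬ p ∣ d

/-- The scalar of a group element in the corner. -/
noncomputable def scal (χ : IrrCharacter G) (x : MonoidAlgebra ℂ G) (d : ℕ) (g : G) : ℂ :=
  ev (χ : G → ℂ) (x * sgl g * x) * (d : ℂ)⁻¹

/-- The generators of the maximal ideal of the corner. -/
noncomputable def gen (χ : IrrCharacter G) (π : ℂ) (d : ℕ) (e x : MonoidAlgebra ℂ G) :
    Option G → MonoidAlgebra ℂ G
  | none => π • e
  | some g => e * sgl g * e - scal χ x d g • e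

/-- Their rational approximations. -/
noncomputable def app (χ : IrrCharacter G) (π : ℂ) (d : ℕ) (x : MonoidAlgebra ℂ G) :
    Option G → MonoidAlgebra ℂ G
  | none => π • x
  | some g => x * sgl g * x - scal χ x d g • x

/-- A product of generators. -/
noncomputable def word (χ : IrrCharacter G) (π : ℂ) (d : ℕ) (e x : MonoidAlgebra ℂ G) :
    List (Option G) → MonoidAlgebra ℂ G
  | [] => e
  | o :: l => gen χ π d e x o * word χ π d e x l

/-- Its rational approximation. -/
noncomputable def appWord (χ : IrrCharacter G) (π : ℂ) (d : ℕ) (x : MonoidAlgebra ℂ G) :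
    List (Option G) → MonoidAlgebra ℂ G
  | [] => x
  | o :: l => app χ π d x o * appWord χ π d x l

/-- Divisible by the uniformizer in the image of the corner. -/
def InP (M : Ideal AlgInt) (π : ℂ) (Φ : MonoidAlgebra ℂ G →ₐ[ℂ] Matrix (Fin n) (Fin n) ℂ)
    (e a : MonoidAlgebra ℂ G) : Prop :=
  ∃ b, AlgRing M b ∧ Φ a = π • Φ (e * b * e)

theorem corner_mul {a b : MonoidAlgebra ℂ G} (he : e * e = e) (ha : e * a * e = a)
    (hb : e * b * e = b) : e * (a * b) * e = a * b := by
  have h1 : e * a = a := by rw [← ha, ← mul_assoc, ← mul_assoc, he]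
  have h2 : b * e = b := by rw [← hb, mul_assoc, he]
  rw [← mul_assoc e a b, h1, mul_assoc, h2]

theorem corner_sandwich (he : e * e = e) (a : MonoidAlgebra ℂ G) :
    e * (e * a * e) * e = e * a * e := by
  simp only [← mul_assoc, he]
  simp only [mul_assoc, he]

variable (D : DFrame S χ π n Φ e x d)
include D

theorem DFrame.d_ne : (d : ℂ) ≠ 0 := Nat.cast_ne_zero.2 fun h => D.coprime (h ▸ dvd_zero p)

theorem DFrame.inv_ring : MemLocalRing M ((d : ℂ)⁻¹) := ring_inv_natCast S.hM D.coprime

theorem DFrame.inv_rat : Rat S χ ((d : ℂ)⁻¹) := Rat.of_un0 (un0_inv_natCast D.coprime)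

theorem DFrame.scal_rat (g : G) : Rat S χ (scal χ x d g) :=
  (RatA.ev D.cfg.dvd (((RatA.of_co D.co).mul (RatA.sgl g)).mul (RatA.of_co D.co))).mul D.inv_rat

theorem DFrame.scal_ring (g : G) : MemLocalRing M (scal χ x d g) :=
  Sys.Un.ring S (D.scal_rat g).1

theorem DFrame.scal_mul (g : G) : scal χ x d g * d = ev (χ : G → ℂ) (x * sgl g * x) := by
  rw [scal, inv_mul_cancel_right₀ D.d_ne]

theorem DFrame.gen_ring : ∀ o, AlgRing M (gen χ π d e x o)
  | none => AlgRing.smul S.hM D.unif.ring D.pr.ring
  | some g => AlgRing.sub S.hM ((D.pr.ring.mul S.hM (AlgRing.single S.hM g)).mul S.hM D.pr.ring)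
      (AlgRing.smul S.hM (D.scal_ring g) D.pr.ring)

theorem DFrame.gen_corner : ∀ o, e * gen χ π d e x o * e = gen χ π d e x o
  | none => by
    show e * (π • e) * e = π • e
    rw [mul_smul_comm, smul_mul_assoc, D.pr.idem, D.pr.idem]
  | some g => by
    show e * (e * sgl g * e - scal χ x d g • e) * e = e * sgl g * e - scal χ x d g • e
    rw [mul_sub, sub_mul, corner_sandwich D.pr.idem, mul_smul_comm, smul_mul_assoc, D.pr.idem,
      D.pr.idem]

theorem DFrame.app_rat : ∀ o, RatA S χ (app χ π d x o)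
  | none => (RatA.of_co D.co).smul D.unif.rat
  | some g => (((RatA.of_co D.co).mul (RatA.sgl g)).mul (RatA.of_co D.co)).sub
      ((RatA.of_co D.co).smul (D.scal_rat g))

theorem DFrame.gen_near : ∀ o, Near M p 6 (gen χ π d e x o) (app χ π d x o)
  | none => D.near.smul S.hM D.unif.ring
  | some g => (D.near_sgl g).sub S.hM (D.near.smul S.hM (D.scal_ring g))

theorem DFrame.word_corner : ∀ l, e * word χ π d e x l * e = word χ π d e x l
  | [] => by
    show e * e * e = e
    rw [D.pr.idem, D.pr.idem]
  | o :: l => corner_mul D.pr.idem (D.gen_corner o) (DFrame.word_corner l)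

theorem DFrame.word_ring : ∀ l, AlgRing M (word χ π d e x l)
  | [] => D.pr.ring
  | o :: l => (D.gen_ring o).mul S.hM (DFrame.word_ring l)

theorem DFrame.appWord_rat : ∀ l, RatA S χ (appWord χ π d x l)
  | [] => RatA.of_co D.co
  | o :: l => (D.app_rat o).mul (DFrame.appWord_rat l)

theorem DFrame.word_near : ∀ l, Near M p 6 (word χ π d e x l) (appWord χ π d x l)
  | [] => D.near
  | o :: l => (D.gen_near o).mul S.hM (DFrame.word_near l) (D.app_rat o).ring (D.appWord_rat l).ring

theorem DFrame.dv_word (l : List (Option G)) :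
    Dv M π 6 (ev (χ : G → ℂ) (word χ π d e x l) - ev (χ : G → ℂ) (appWord χ π d x l)) :=
  near_dv D.unif (D.word_near l)

theorem DFrame.dv_gen : ∀ o, Dv M π 1 (ev (χ : G → ℂ) (gen χ π d e x o))
  | none => ⟨d, ring_natCast S.hM d, by
      show ev (χ : G → ℂ) (π • e) = _
      rw [ev_smul_left, D.value, pow_one]⟩
  | some g => by
    show Dv M π 1 (ev (χ : G → ℂ) (e * sgl g * e - scal χ x d g • e))
    rw [ev_sub, ev_smul_left, D.value, D.scal_mul]
    exact (near_dv D.unif (D.near_sgl g)).mono S.hM D.unif.ring (by omega)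

/-- An element of the corner is a scalar plus a combination of the generators. -/
theorem DFrame.exists_span {b : MonoidAlgebra ℂ G} (hb : AlgRing M b) (hbe : e * b * e = b)
    (hv : Dv M π 1 (ev (χ : G → ℂ) b)) :
    ∃ a : Option G → ℂ, (∀ o, MemLocalRing M (a o)) ∧ b = ∑ o, a o • gen χ π d e x o := by
  have hM := S.hM
  set c := ∑ g : G, b.coeff g * scal χ x d g with hc
  have hdec : b = ∑ g : G, b.coeff g • gen χ π d e x (some g) + c • e := by
    conv_lhs => rw [← hbe, ← sum_single b, Finset.mul_sum, Finset.sum_mul]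
    rw [hc, Finset.sum_smul, ← Finset.sum_add_distrib]
    refine Finset.sum_congr rfl fun g _ => ?_
    show e * (b.coeff g • sgl g) * e =
      b.coeff g • (e * sgl g * e - scal χ x d g • e) + (b.coeff g * scal χ x d g) • e
    rw [mul_smul_comm, smul_mul_assoc, smul_sub, smul_smul, sub_add_cancel]
  have hcd : Dv M π 1 (c * d) := by
    have h1 : ev (χ : G → ℂ) b =
        ∑ g : G, b.coeff g * ev (χ : G → ℂ) (gen χ π d e x (some g)) + c * d := by
      conv_lhs => rw [hdec]
      rw [ev_add, ev_sum_left, ev_smul_left, D.value]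
      simp only [ev_smul_left]
    rw [show c * d = ev (χ : G → ℂ) b -
      ∑ g : G, b.coeff g * ev (χ : G → ℂ) (gen χ π d e x (some g)) by rw [h1]; ring]
    exact hv.sub hM (Dv.sum hM fun g _ => (D.dv_gen (some g)).ring_mul_left hM (hb g))
  obtain ⟨c', hc', hce⟩ := hcd.mul_ring hM D.inv_ring
  rw [mul_inv_cancel_right₀ D.d_ne, pow_one] at hce
  refine ⟨fun o => o.elim c' b.coeff, fun o => ?_, ?_⟩
  · cases o
    exacts [hc', hb _]
  · rw [Fintype.sum_option]
    conv_lhs => rw [hdec, hce]
    show _ = c' • (π • e) + _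
    rw [smul_smul, mul_comm c', add_comm]
    rfl

/-- The residue of a product is nilpotent, and long products are in the ideal. -/
theorem DFrame.exists_bound :
    (∀ o o', MemLocalIdeal M (ev (χ : G → ℂ) (word χ π d e x [o, o']))) ∧
      ∃ N, 0 < N ∧ ∀ l : List (Option G), l.length = N → AlgIdeal M (word χ π d e x l) := by
  classical
  letI := resInst S.hM
  have hM := S.hM
  obtain ⟨hnt, hloc⟩ := corner_scalar hM D.pr
  have hE := redA_idem hM D.pr.ring D.pr.idem
  haveI : Nontrivial hE.Corner := hnt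
  set P := fun b : MonoidAlgebra ℂ G => proj (K := ResField hM) hE (redA hM b) with hP
  have hval : ∀ b, AlgRing M b → e * b * e = b → (P b).1 = redA hM b := fun b hb hbe => by
    rw [hP, proj_val, ← redA_mul hM D.pr.ring hb, ← redA_mul hM (D.pr.ring.mul hM hb) D.pr.ring, hbe]
  have hnil : ∀ o, IsNilpotent (P (gen χ π d e x o)) := by
    intro o
    obtain ⟨c, hc, hcd, hn⟩ := corner_residue S D.aff D.pr (D.gen_ring o) (D.gen_corner o)
    refine hn ?_
    have h1 : MemLocalIdeal M (c * d) := by
      rw [← D.value]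
      exact (ideal_congr hM hcd).1 ((D.dv_gen o).ideal hM D.unif.mem)
    exact (ideal_or_of_mul hM hc (ring_natCast hM d) h1).resolve_right fun h =>
      D.coprime ((ideal_natCast_iff hM d).1 h)
  have hmul : ∀ o l, P (word χ π d e x (o :: l)) = P (gen χ π d e x o) * P (word χ π d e x l) := by
    intro o l
    refine Subtype.ext ?_
    show (P (word χ π d e x (o :: l))).1 = (P (gen χ π d e x o)).1 * (P (word χ π d e x l)).1
    rw [hval _ (D.word_ring _) (D.word_corner _), hval _ (D.gen_ring o) (D.gen_corner o),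
      hval _ (D.word_ring l) (D.word_corner l)]
    exact redA_mul hM (D.gen_ring o) (D.word_ring l)
  have hmem : ∀ l, l ≠ [] → P (word χ π d e x l) ∈ LocAlg.rad hloc ^ l.length := by
    intro l hl
    induction l with
    | nil => exact absurd rfl hl
    | cons o l ih =>
      rw [hmul, List.length_cons]
      rcases l with _ | ⟨o', l⟩
      · rw [List.length_nil, zero_add, pow_one]
        exact (LocAlg.rad_mul_mem hloc (hnil o) _).1
      · rw [pow_succ']
        exact Submodule.mul_mem_mul (hnil o) (ih (List.cons_ne_nil _ _))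
  constructor
  · intro o o'
    have h1 : P (word χ π d e x [o, o']) ∈ LocAlg.rad hloc :=
      (LocAlg.rad_pow_anti one_pos one_le_two).trans (pow_one _).le (hmem [o, o'] (List.cons_ne_nil _ _))
    obtain ⟨N, hN⟩ := LocAlg.mem_rad.1 h1
    have hb := D.word_ring [o, o']
    have hbe := D.word_corner [o, o']
    have hpow : ∀ m : ℕ, ((P (word χ π d e x [o, o'])) ^ (m + 1)).1 =
        redA hM (word χ π d e x [o, o'] ^ (m + 1)) := by
      intro m
      induction m with
      | zero => rw [pow_one, pow_one, hval _ hb hbe]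
      | succ m ih =>
        rw [pow_succ, pow_succ (word χ π d e x [o, o']), redA_mul hM (AlgRing.pow hM hb _) hb]
        show ((P (word χ π d e x [o, o'])) ^ (m + 1)).1 * (P (word χ π d e x [o, o'])).1 = _
        rw [ih, hval _ hb hbe]
    refine ev_ideal_of_pow S D.aff hb (N := N + 1) ?_
    rw [← redA_eq_zero hM (AlgRing.pow hM hb _), ← hpow, pow_succ, hN, zero_mul]
    rfl
  · obtain ⟨N, hN, hN0⟩ := LocAlg.exists_rad_pow_eq_bot hloc
    refine ⟨N, hN, fun l hl => ?_⟩
    have h1 := hmem l (fun h => by rw [h] at hl; exact hN.ne hl)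
    rw [hl, hN0, Submodule.mem_bot] at h1
    rw [← redA_eq_zero hM (D.word_ring l), ← hval _ (D.word_ring l) (D.word_corner l), h1]
    rfl

/-- Long products are divisible by the uniformizer. -/
theorem DFrame.inP_of_ideal {l : List (Option G)} (hl : AlgIdeal M (word χ π d e x l)) :
    InP M π Φ e (word χ π d e x l) := by
  have hM := S.hM
  obtain ⟨z, hz, hnear⟩ := D.word_near l
  obtain ⟨w, hw, hpw⟩ := D.unif.div_p
  have hcoef : ∀ g, ∃ y, Rat S χ y ∧ (appWord χ π d x l).coeff g = π * y := fun g => by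
    refine D.unif.dv_one (D.appWord_rat l g) ?_
    have h1 := hl g
    rw [hnear, MonoidAlgebra.coeff_add, Finsupp.add_apply, MonoidAlgebra.coeff_smul,
      Finsupp.smul_apply, smul_eq_mul] at h1
    refine (ideal_congr hM ?_).1 h1
    rw [add_sub_cancel_left, pow_succ', mul_assoc]
    exact ideal_mul_right hM (ideal_p hM) (ring_mul hM (ring_pow hM (ring_natCast hM p) _) (hz g))
  choose y hy hye using hcoef
  set Y : MonoidAlgebra ℂ G := ∑ g, y g • sgl g with hY
  have hYr : AlgRing M Y := AlgRing.sum hM fun g _ =>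
    AlgRing.smul hM (Sys.Un.ring S (hy g).1) (AlgRing.single hM g)
  have happ : appWord χ π d x l = π • Y := by
    conv_lhs => rw [← sum_single (appWord χ π d x l)]
    rw [hY, Finset.smul_sum]
    exact Finset.sum_congr rfl fun g _ => by rw [hye g, mul_smul]
  refine ⟨Y + (w * (p : ℂ) ^ 5) • z, AlgRing.add hM hYr (AlgRing.smul hM
    (ring_mul hM (Sys.Un.ring S hw) (ring_pow hM (ring_natCast hM p) 5)) hz), ?_⟩
  rw [← map_smul]
  congr 1
  conv_lhs => rw [← D.word_corner l, hnear, happ]
  rw [← smul_mul_assoc, ← mul_smul_comm, smul_add, smul_smul, show π * (w * (p : ℂ) ^ 5) = (p : ℂ) ^ 6 by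
    rw [← mul_assoc, ← hpw]; ring]

/-- A product which is not divisible by the uniformizer while all its left multiples are. -/
theorem DFrame.exists_max : ∃ l, ¬ InP M π Φ e (word χ π d e x l) ∧
    ∀ o, InP M π Φ e (word χ π d e x (o :: l)) := by
  have hM := S.hM
  obtain ⟨-, N, hN, hlen⟩ := D.exists_bound
  have h0 : ¬ InP M π Φ e (word χ π d e x []) := by
    rintro ⟨b, hb, hbe⟩
    refine D.coprime ((ideal_natCast_iff hM d).1 ?_)
    rw [← D.value, ← D.aff.trace, show e = word χ π d e x [] from rfl, hbe, Matrix.trace_smul,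
      smul_eq_mul, D.aff.trace]
    exact ideal_mul_right hM D.unif.mem (ev_ring S χ ((D.pr.ring.mul hM hb).mul hM D.pr.ring))
  by_contra hne
  push Not at hne
  have key : ∀ k, ∃ l : List (Option G), l.length = k ∧ ¬ InP M π Φ e (word χ π d e x l) := by
    intro k
    induction k with
    | zero => exact ⟨[], rfl, h0⟩
    | succ k ih =>
      obtain ⟨l, hl, hln⟩ := ih
      obtain ⟨o, ho⟩ := hne l hln
      exact ⟨o :: l, by rw [List.length_cons, hl], ho⟩
  obtain ⟨l, hl, hln⟩ := key N
  exact hln (D.inP_of_ideal (hlen l hl))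

end Cfsg.Agent.Char.Stem
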