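import Cfsg.Agent.Lib.Char.Stem.Aut
import Cfsg.Agent.Lib.Char.DecompClasses

/-!
Primitive idempotents which are congruent modulo a high power of `p` to elements with coefficients
in the local ring of `ℚ(ω)`.
-/

set_option autoImplicit false
set_option linter.unusedSectionVars false

namespace Cfsg.Agent.Char.Stem

open Cfsg Cfsg.Agent.Block Cfsg.Agent.Char.Spec Cfsg.Agent.Char.BP Cfsg.Agent.Char.Res
  Cfsg.Agent.Char.Corner Cfsg.Agent.Char.Decomp

universe u

variable {G : Type u} [Group G] [Fintype G] [DecidableEq G] {p : ℕ} {M : Ideal AlgInt} [hp : Fact p.Prime]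

/-- Coefficients in the local ring of `ℚ(ω)`. -/
def Co (S : Sys p M) (x : MonoidAlgebra ℂ G) : Prop := ∀ g, S.Un0 (x.coeff g)

/-- Congruence modulo `p ^ k`. -/
def Near (M : Ideal AlgInt) (p k : ℕ) (a b : MonoidAlgebra ℂ G) : Prop :=
  ∃ z, AlgRing M z ∧ a = b + ((p : ℂ) ^ k) • z

theorem Co.ring {S : Sys p M} {x : MonoidAlgebra ℂ G} (hx : Co S x) : AlgRing M x :=
  fun g => Sys.Un.ring S (Sys.Un0.un S (hx g))

theorem Co.add {S : Sys p M} {x y : MonoidAlgebra ℂ G} (hx : Co S x) (hy : Co S y) : Co S (x + y) :=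
  fun g => by
  rw [MonoidAlgebra.coeff_add, Finsupp.add_apply]
  exact Sys.Un0.add S (hx g) (hy g)

theorem Co.smul {S : Sys p M} {c : ℂ} (hc : S.Un0 c) {x : MonoidAlgebra ℂ G} (hx : Co S x) :
    Co S (c • x) := fun g => by
  rw [MonoidAlgebra.coeff_smul, Finsupp.smul_apply, smul_eq_mul]
  exact Sys.Un0.mul S hc (hx g)

theorem Co.sub {S : Sys p M} {x y : MonoidAlgebra ℂ G} (hx : Co S x) (hy : Co S y) : Co S (x - y) :=
  fun g => by
  rw [MonoidAlgebra.coeff_sub, Finsupp.sub_apply]
  exact (S.U0).sub_mem (hx g) (hy g)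

theorem Co.mul {S : Sys p M} {x y : MonoidAlgebra ℂ G} (hx : Co S x) (hy : Co S y) : Co S (x * y) :=
  fun g => by
  rw [coeff_mul_apply]
  exact (S.U0).sum_mem fun h _ => Sys.Un0.mul S (hx _) (hy _)

theorem Co.single (S : Sys p M) (a : G) : Co S (MonoidAlgebra.single a (1 : ℂ)) := fun g => by
  rw [MonoidAlgebra.coeff_single, Finsupp.single_apply]
  split_ifs
  exacts [(S.U0).one_mem, (S.U0).zero_mem]

theorem Co.div_p {S : Sys p M} {x : MonoidAlgebra ℂ G} (hx : Co S x) (hI : AlgIdeal M x) :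
    ∃ y, Co S y ∧ x = (p : ℂ) • y := by
  refine ⟨(p : ℂ)⁻¹ • x, fun g => ?_, by rw [smul_inv_smul₀ (Nat.cast_ne_zero.2 hp.out.ne_zero)]⟩
  obtain ⟨b, hb, e⟩ := Sys.Un0.div_p S (hx g) (hI g)
  rw [MonoidAlgebra.coeff_smul, Finsupp.smul_apply, smul_eq_mul, e,
    inv_mul_cancel_left₀ (Nat.cast_ne_zero.2 hp.out.ne_zero)]
  exact hb

theorem Near.ring (hM : IsPModular p M) {k : ℕ} {a b : MonoidAlgebra ℂ G} (h : Near M p k a b)
    (hb : AlgRing M b) : AlgRing M a := by
  obtain ⟨z, hz, rfl⟩ := h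
  exact AlgRing.add hM hb (AlgRing.smul hM (ring_pow hM (ring_natCast hM p) k) hz)

theorem Near.mul (hM : IsPModular p M) {k : ℕ} {a b a' b' : MonoidAlgebra ℂ G}
    (h : Near M p k a b) (h' : Near M p k a' b') (hb : AlgRing M b) (hb' : AlgRing M b') :
    Near M p k (a * a') (b * b') := by
  have ha' := h'.ring hM hb'
  obtain ⟨z, hz, rfl⟩ := h
  obtain ⟨z', hz', e⟩ := h'
  refine ⟨z * a' + b * z', AlgRing.add hM (hz.mul hM ha') (hb.mul hM hz'), ?_⟩
  rw [add_mul, smul_add, smul_mul_assoc, e, mul_add b b', mul_smul_comm]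
  abel

theorem Near.refl (hM : IsPModular p M) (k : ℕ) (a : MonoidAlgebra ℂ G) : Near M p k a a :=
  ⟨0, AlgRing.zero hM, by simp⟩

/-- An element congruent to `1` modulo `M` is invertible. -/
theorem exists_inverse (hM : IsPModular p M) {u : MonoidAlgebra ℂ G} (hu : AlgRing M u)
    (h1 : AlgIdeal M (u - 1)) : ∃ v, AlgRing M v ∧ u * v = 1 ∧ v * u = 1 := by
  obtain ⟨δ, y, hδ, hy, hδδ, hcomm, hxy, N, hN⟩ := exists_spectral hM hu
  have hd0 : AlgIdeal M (1 - δ) := by
    have hpow : ∀ n, AlgIdeal M (u ^ n - 1) := by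
      intro n
      induction n with
      | zero => simpa using AlgIdeal.zero (G := G) hM
      | succ n ih =>
        rw [show u ^ (n + 1) - 1 = u ^ n * (u - 1) + (u ^ n - 1) by rw [pow_succ, mul_sub, mul_one]; abel]
        exact AlgIdeal.add hM (AlgIdeal.mul_left hM (AlgRing.pow hM hu n) h1) ih
    rw [show 1 - δ = u ^ N * (1 - δ) - (u ^ N - 1) * (1 - δ) by
      rw [sub_mul (u ^ N) 1, one_mul]; abel]
    exact AlgIdeal.sub hM hN
      (AlgIdeal.mul_right hM (hpow N) (AlgRing.sub hM (AlgRing.one hM) hδ))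
  have hd : δ = 1 := (sub_eq_zero.1 (idem_eq_zero hM hd0 (by
    simp only [mul_sub, sub_mul, one_mul, mul_one, hδδ]; abel))).symm
  rw [hd, mul_one] at hxy
  exact ⟨y, hy, hxy, ((hcomm u (Commute.refl u)).2).eq.trans hxy⟩

/-- A primitive idempotent is conjugate to one which is, modulo a high power of `p`, an element
with coefficients in the local ring of `ℚ(ω)`. -/
theorem exists_near (S : Sys p M) {e : MonoidAlgebra ℂ G} (he : Pr M e)
    (hroot : ∀ g, ∃ c, S.Un0 c ∧ MemLocalIdeal M (e.coeff g - c)) (k : ℕ) :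
    ∃ (e' x : MonoidAlgebra ℂ G), Pr M e' ∧ Eqv M e' e ∧ Co S x ∧ Near M p k e' x := by
  classical
  have hM := S.hM
  choose c hc hce using hroot
  set x₀ : MonoidAlgebra ℂ G := ∑ g, c g • MonoidAlgebra.single g (1 : ℂ) with hx₀
  have hx₀c : ∀ g, x₀.coeff g = c g := fun g => by
    rw [hx₀, MonoidAlgebra.coeff_sum, Finsupp.coe_finsetSum, Finset.sum_apply, Finset.sum_eq_single g]
    · simp
    · intro b _ hb
      simp [hb]
    · simp
  have hx₀Co : Co S x₀ := fun g => by rw [hx₀c]; exact hc g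
  have hx₀e : AlgIdeal M (x₀ - e) := fun g => by
    rw [MonoidAlgebra.coeff_sub, Finsupp.sub_apply, hx₀c]
    exact ideal_sub_comm (hce g)
  obtain ⟨x, hx, hxe, d, hd, hxx⟩ : ∃ x, Co S x ∧ AlgIdeal M (x - e) ∧
      ∃ d, Co S d ∧ x * x - x = ((p : ℂ) ^ k) • d := by
    have step : ∀ n, ∃ x, Co S x ∧ AlgIdeal M (x - e) ∧
        ∃ d, Co S d ∧ x * x - x = ((p : ℂ) ^ (n + 1)) • d := by
      intro n
      induction n with
      | zero =>
        refine ⟨x₀, hx₀Co, hx₀e, ?_⟩
        rw [zero_add, pow_one]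
        refine Co.div_p (Co.sub (Co.mul hx₀Co hx₀Co) hx₀Co) ?_
        rw [show x₀ * x₀ - x₀ = (x₀ - e) * x₀ + e * (x₀ - e) - (x₀ - e) by
          rw [sub_mul, mul_sub, he.idem]; abel]
        exact AlgIdeal.sub hM (AlgIdeal.add hM (AlgIdeal.mul_right hM hx₀e hx₀Co.ring)
          (AlgIdeal.mul_left hM he.ring hx₀e)) hx₀e
      | succ n ih =>
        obtain ⟨x, hx, hxe, d, hd, hxx⟩ := ih
        set D := x * x - x with hD
        have hDco : Co S D := Co.sub (Co.mul hx hx) hx
        have hDI : AlgIdeal M D := fun g => by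
          rw [hxx, MonoidAlgebra.coeff_smul, Finsupp.smul_apply, smul_eq_mul, pow_succ', mul_assoc]
          exact ideal_mul_right hM (ideal_p hM)
            (ring_mul hM (ring_pow hM (ring_natCast hM p) n) (hd.ring g))
        refine ⟨(3 : ℂ) • (x * x) - (2 : ℂ) • (x * x * x), Co.sub (Co.smul (natCast_mem S.U0 3) (Co.mul hx hx))
          (Co.smul (natCast_mem S.U0 2) (Co.mul (Co.mul hx hx) hx)), ?_, ?_⟩
        · rw [show (3 : ℂ) • (x * x) - (2 : ℂ) • (x * x * x) - e = D * (1 - (2 : ℂ) • x) + (x - e) by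
            rw [hD]
            simp only [mul_sub, sub_mul, mul_one, mul_smul_comm]
            module]
          exact AlgIdeal.add hM (AlgIdeal.mul_right hM hDI (AlgRing.sub hM (AlgRing.one hM)
            (AlgRing.smul hM (ring_natCast hM 2) hx.ring))) hxe
        · refine ⟨((p : ℂ) ^ n) • (d * d * ((4 : ℂ) • D - (3 : ℂ) • (1 : MonoidAlgebra ℂ G))),
            Co.smul ((S.U0).pow_mem (natCast_mem S.U0 p) n) (Co.mul (Co.mul hd hd) (Co.sub
              (Co.smul (natCast_mem S.U0 4) hDco) (Co.smul (natCast_mem S.U0 3) (fun g => by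
                rw [MonoidAlgebra.one_def]; exact Co.single S 1 g)))), ?_⟩
          have h1 : ∀ x : MonoidAlgebra ℂ G,
              ((3 : ℂ) • (x * x) - (2 : ℂ) • (x * x * x)) * ((3 : ℂ) • (x * x) - (2 : ℂ) • (x * x * x)) -
              ((3 : ℂ) • (x * x) - (2 : ℂ) • (x * x * x)) =
              (x * x - x) * (x * x - x) * ((4 : ℂ) • (x * x - x) - (3 : ℂ) • (1 : MonoidAlgebra ℂ G)) := by
            intro x
            simp only [mul_sub, sub_mul, mul_smul_comm, smul_mul_assoc, mul_one, smul_sub, smul_smul,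
              mul_assoc]
            module
          rw [h1 x, ← hD, hxx]
          simp only [smul_mul_assoc, mul_smul_comm, smul_smul]
          congr 1
          ring
    obtain ⟨x, hx, hxe, d, hd, h⟩ := step k
    exact ⟨x, hx, hxe, (p : ℂ) • d, Co.smul (natCast_mem S.U0 p) hd, by rw [smul_smul, ← pow_succ]; exact h⟩
  -- conjugate
  set u : MonoidAlgebra ℂ G := x * e + (1 - x) * (1 - e) with hu
  have hxr := hx.ring
  have hur : AlgRing M u := AlgRing.add hM (hxr.mul hM he.ring)
    ((AlgRing.sub hM (AlgRing.one hM) hxr).mul hM (AlgRing.sub hM (AlgRing.one hM) he.ring))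
  have hu1 : AlgIdeal M (u - 1) := by
    rw [show u - 1 = (x - e) * e + (x - e) * e - (x - e) by
      rw [hu]; simp only [sub_mul, mul_sub, one_mul, mul_one, he.idem]; abel]
    exact AlgIdeal.sub hM (AlgIdeal.add hM (AlgIdeal.mul_right hM hxe he.ring)
      (AlgIdeal.mul_right hM hxe he.ring)) hxe
  obtain ⟨v, hv, huv, hvu⟩ := exists_inverse hM hur hu1
  have hxu : x * u - u * e = ((p : ℂ) ^ k) • (d * e - d * (1 - e)) := by
    rw [smul_sub, ← smul_mul_assoc, ← smul_mul_assoc, ← hxx, hu]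
    simp only [mul_add, add_mul, mul_sub, sub_mul, one_mul, mul_one, mul_assoc, he.idem]
    abel
  set e' := u * e * v with he'
  have he'r : AlgRing M e' := (hur.mul hM he.ring).mul hM hv
  have hee : e' * e' = e' := by
    rw [he', show u * e * v * (u * e * v) = u * e * (v * u) * e * v by simp only [mul_assoc], hvu,
      mul_one, mul_assoc u e e, he.idem]
  have heq : Eqv M e' e := ⟨u, v, hur, hv, by
    rw [he']
    calc u * e * v = u * e * e * e * v := by rw [mul_assoc u e e, he.idem, mul_assoc u e e, he.idem]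
      _ = u * e * (v * u) * e * (v * u) * e * v := by rw [hvu, mul_one, mul_one]
      _ = u * e * v * u * e * v * (u * e * v) := by simp only [mul_assoc]⟩
  refine ⟨e', x, ⟨⟨Res.fx_bot he'r, hee, fun q hq hqq h1 h2 => ?_⟩, fun h0 => he.2 ?_⟩, heq, hx,
    -((d * e - d * (1 - e)) * v), ?_, ?_⟩
  · have key : v * q * u = 0 ∨ v * q * u = e := by
      refine he.1.2.2 _ (Res.fx_bot ((hv.mul hM hq.1).mul hM hur)) ?_ ?_ ?_
      · rw [show v * q * u * (v * q * u) = v * q * (u * v) * q * u by simp only [mul_assoc], huv,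
          mul_one, mul_assoc v q q, hqq]
      · rw [show e * (v * q * u) = (v * u) * (e * (v * q * u)) by rw [hvu, one_mul],
          show v * u * (e * (v * q * u)) = v * (u * e * v * q) * u by simp only [mul_assoc],
          ← he', h1]
      · rw [show v * q * u * e = v * q * u * e * (v * u) by rw [hvu, mul_one],
          show v * q * u * e * (v * u) = v * (q * (u * e * v)) * u by simp only [mul_assoc],
          ← he', h2]
    have hq' : q = u * (v * q * u) * v := by
      rw [show u * (v * q * u) * v = (u * v) * q * (u * v) by simp only [mul_assoc], huv, one_mul,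
        mul_one]
    rcases key with h | h
    · exact Or.inl (by rw [hq', h, mul_zero, zero_mul])
    · exact Or.inr (by rw [hq', h, he'])
  · calc e = (v * u) * e * (v * u) := by rw [hvu, one_mul, mul_one]
      _ = v * e' * u := by rw [he']; simp only [mul_assoc]
      _ = 0 := by rw [h0, mul_zero, zero_mul]
  · exact ((AlgRing.sub hM (hd.ring.mul hM he.ring) (hd.ring.mul hM (AlgRing.sub hM (AlgRing.one hM)
      he.ring))).mul hM hv).neg
  · rw [smul_neg, ← smul_mul_assoc, ← hxu, sub_mul, mul_assoc x u v, huv, mul_one, ← he']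
    abel

end Cfsg.Agent.Char.Stem
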