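import Cfsg.Agent.Lib.Char.Stem.Gen

/-!
Multiplicity one: the corner of a primitive idempotent in the image of the integral group algebra
in a representation of degree prime to `p` is commutative, hence the representation takes the
idempotent to a projection of rank one or to zero.
-/

set_option autoImplicit false
set_option linter.unusedSectionVars false

namespace Cfsg.Agent.Char.Stem

open Cfsg Cfsg.Agent.Block Cfsg.Agent.Char.Spec Cfsg.Agent.Char.BP Cfsg.Agent.Char.Res
  Cfsg.Agent.Char.Corner Cfsg.Agent.Char.Decomp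

universe u

variable {G : Type u} [Group G] [Fintype G] [DecidableEq G] {p : ℕ} {M : Ideal AlgInt} [hp : Fact p.Prime]
variable {S : Sys p M} {χ : IrrCharacter G} {π : ℂ} {n : ℕ}
  {Φ : MonoidAlgebra ℂ G →ₐ[ℂ] Matrix (Fin n) (Fin n) ℂ} {e x : MonoidAlgebra ℂ G} {d : ℕ}

theorem dv_cancel {y : ℂ} (U : Unif S χ π) {k : ℕ} (h : Dv M π (k + 1) (π * y)) : Dv M π k y := by
  obtain ⟨z, hz, e⟩ := h
  exact ⟨z, hz, mul_left_cancel₀ U.ne (by rw [e]; ring)⟩

theorem charpoly_ring {ι : Type*} [Fintype ι] [DecidableEq ι] (hM : IsPModular p M) (A : Matrix ι ι ℂ)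
    (hA : ∀ s t, MemLocalRing M (A s t)) (i : ℕ) : MemLocalRing M (A.charpoly.coeff i) := by
  let B : Matrix ι ι (localRing hM) := fun s t => ⟨A s t, hA s t⟩
  have hB : (localRing hM).subtype.mapMatrix B = A := by ext s t; rfl
  rw [← hB, RingHom.mapMatrix_apply, Matrix.charpoly_map, Polynomial.coeff_map]
  exact (B.charpoly.coeff i).2

variable (D : DFrame S χ π n Φ e x d)
include D

theorem DFrame.map_corner {a : MonoidAlgebra ℂ G} (ha : e * a * e = a) :
    Φ e * Φ a = Φ a ∧ Φ a * Φ e = Φ a := by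
  constructor
  · rw [← map_mul]
    conv_lhs => rw [← ha, ← mul_assoc, ← mul_assoc, D.pr.idem]
    rw [ha]
  · rw [← map_mul]
    conv_lhs => rw [← ha, mul_assoc, D.pr.idem]
    rw [ha]

theorem DFrame.quot_dichotomy {l : List (Option G)} (o : Option G) {b : MonoidAlgebra ℂ G}
    (hb : AlgRing M b) (he : Φ (word χ π d e x (o :: l)) = π • Φ (e * b * e)) :
    Dv M π 1 (ev (χ : G → ℂ) (e * b * e)) ∨ ¬ MemLocalIdeal M (ev (χ : G → ℂ) (e * b * e)) := by
  have hM := S.hM
  set u := ev (χ : G → ℂ) (e * b * e) with hu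
  have hur : MemLocalRing M u := ev_ring S χ ((D.pr.ring.mul hM hb).mul hM D.pr.ring)
  have h1 : ev (χ : G → ℂ) (word χ π d e x (o :: l)) = π * u := by
    rw [hu, ← D.aff.trace, he, Matrix.trace_smul, smul_eq_mul, D.aff.trace]
  have hdv := (D.dv_word (o :: l)).mono hM D.unif.ring (show 1 + 1 ≤ 6 by omega)
  rw [h1] at hdv
  rcases D.unif.lift (RatA.ev D.cfg.dvd (D.appWord_rat (o :: l))) hdv ⟨u, hur, by rw [pow_one]⟩ with
    h | ⟨z, -, hz, h⟩
  · exact Or.inl (dv_cancel D.unif h)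
  · rw [pow_one] at h
    exact Or.inr (mul_left_cancel₀ D.unif.ne h ▸ hz)

/-- The trace of the quotient of a maximal product cannot be divisible for all generators. -/
theorem DFrame.false_of_all {l : List (Option G)} (hl : ¬ InP M π Φ e (word χ π d e x l))
    {b : Option G → MonoidAlgebra ℂ G} (hb : ∀ o, AlgRing M (b o))
    (hbe : ∀ o, Φ (word χ π d e x (o :: l)) = π • Φ (e * b o * e))
    (hall : ∀ o, Dv M π 1 (ev (χ : G → ℂ) (e * b o * e))) : False := by
  classical
  have hM := S.hM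
  have hπ := D.unif.ne
  have hdiv : ∀ o, ∃ a : Option G → ℂ, (∀ o', MemLocalRing M (a o')) ∧
      e * b o * e = ∑ o', a o' • gen χ π d e x o' := fun o =>
    D.exists_span ((D.pr.ring.mul hM (hb o)).mul hM D.pr.ring) (corner_sandwich D.pr.idem _) (hall o)
  choose A hA hAe using hdiv
  set Y : Matrix (Fin n) (Fin n) ℂ := π⁻¹ • Φ (word χ π d e x l) with hY
  have hEY : Φ e * Y = Y ∧ Y * Φ e = Y := by
    rw [hY, mul_smul_comm, smul_mul_assoc, (D.map_corner (D.word_corner l)).1,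
      (D.map_corner (D.word_corner l)).2]
    exact ⟨rfl, rfl⟩
  have hgY : ∀ o, Φ (gen χ π d e x o) * Y = Φ (e * b o * e) := fun o => by
    rw [hY, mul_smul_comm, ← map_mul, show gen χ π d e x o * word χ π d e x l =
      word χ π d e x (o :: l) from rfl, hbe, inv_smul_smul₀ hπ]
  have hgYA : ∀ o, Φ (gen χ π d e x o) * Y = ∑ o', A o o' • Φ (gen χ π d e x o') := fun o => by
    rw [hgY, hAe, map_sum]
    simp only [map_smul]
  set AA : Matrix (Option G) (Option G) ℂ := Matrix.of A with hAA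
  have hpow : ∀ (k : ℕ) (o : Option G),
      Φ (gen χ π d e x o) * Y ^ k = ∑ o', (AA ^ k) o o' • Φ (gen χ π d e x o') := by
    intro k
    induction k with
    | zero =>
      intro o
      simp [Matrix.one_apply]
    | succ k ih =>
      intro o
      rw [pow_succ, ← mul_assoc, ih, Finset.sum_mul]
      simp only [smul_mul_assoc, hgYA, Finset.smul_sum, smul_smul]
      rw [Finset.sum_comm]
      refine Finset.sum_congr rfl fun o'' _ => ?_
      rw [← Finset.sum_smul, pow_succ, Matrix.mul_apply]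
      rfl
  set P := AA.charpoly with hP
  have hgP : ∀ o, Φ (gen χ π d e x o) * Polynomial.aeval Y P = 0 := by
    intro o
    have h1 : Φ (gen χ π d e x o) * Polynomial.aeval Y P =
        ∑ o', (Polynomial.aeval AA P) o o' • Φ (gen χ π d e x o') := by
      rw [Polynomial.aeval_eq_sum_range, Polynomial.aeval_eq_sum_range, Finset.mul_sum]
      simp only [mul_smul_comm, hpow, Finset.smul_sum, smul_smul, Matrix.sum_apply, Matrix.smul_apply,
        smul_eq_mul, Finset.sum_smul]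
      rw [Finset.sum_comm]
    rw [h1, hP, Matrix.aeval_self_charpoly]
    simp
  have hYP : Y * Polynomial.aeval Y P = 0 := by
    have h1 := hgP none
    rw [show gen χ π d e x none = π • e from rfl, map_smul, smul_mul_assoc,
      smul_eq_zero] at h1
    have h2 := h1.resolve_left hπ
    calc Y * Polynomial.aeval Y P = Y * (Φ e * Polynomial.aeval Y P) := by
          rw [← mul_assoc, hEY.2]
      _ = 0 := by rw [h2, mul_zero]
  have htrY : MemLocalRing M Y.trace := by
    rw [Matrix.trace_eq_sum_roots_charpoly]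
    refine Multiset.sum_induction _ _ (fun _ _ => ring_add hM) (ring_zero hM) fun μ hμ => ?_
    have hspec : μ ∈ spectrum ℂ Y := Matrix.mem_spectrum_iff_isRoot_charpoly.2
      ((Polynomial.mem_roots (Matrix.charpoly_monic _).ne_zero).1 hμ)
    haveI : Nonempty (Fin n) := by
      rcases Nat.eq_zero_or_pos n with rfl | h
      · rw [Matrix.charpoly_isEmpty, Polynomial.roots_one] at hμ
        exact absurd hμ (Multiset.notMem_zero μ)
      · exact ⟨⟨0, h⟩⟩
    refine ring_of_isRoot hM (Polynomial.monic_X.mul (Matrix.charpoly_monic AA)) (fun i => ?_) ?_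
    · rcases i with _ | i
      · rw [Polynomial.coeff_X_mul_zero]
        exact ring_zero hM
      · rw [Polynomial.coeff_X_mul]
        exact charpoly_ring hM AA (fun s t => hA s t) i
    · have h0 : Polynomial.aeval Y (Polynomial.X * AA.charpoly) = 0 := by
        rw [map_mul, Polynomial.aeval_X]
        exact hYP
      have h2 := spectrum.subset_polynomial_aeval Y (Polynomial.X * AA.charpoly) ⟨μ, hspec, rfl⟩
      rw [h0, spectrum.zero_eq] at h2
      exact h2
  set s := word χ π d e x l with hs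
  have hsY : Φ s = π • Y := by rw [hY, smul_inv_smul₀ hπ]
  have hevs : ev (χ : G → ℂ) s = π * Y.trace := by
    rw [← D.aff.trace, hsY, Matrix.trace_smul, smul_eq_mul]
  obtain ⟨v, hv, hve⟩ := D.unif.rat_div 1 (RatA.ev D.cfg.dvd (D.appWord_rat l)) (by
    have h1 : Dv M π 1 (ev (χ : G → ℂ) s) := ⟨_, htrY, by rw [hevs, pow_one]⟩
    simpa [hs] using h1.sub hM ((D.dv_word l).mono hM D.unif.ring (show 1 ≤ 6 by omega)))
  rw [pow_one] at hve
  have hYv : Dv M π 1 (Y.trace - v) := by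
    refine dv_cancel D.unif ((D.dv_word l).mono hM D.unif.ring (show 1 + 1 ≤ 6 by omega) |> fun h => ?_)
    rwa [hevs, hve, ← mul_sub] at h
  set c₀ := v * (d : ℂ)⁻¹ with hc₀
  have hc₀r : Rat S χ c₀ := hv.mul D.inv_rat
  have hxh : ∀ h : G, Rat S χ (ev (χ : G → ℂ) (x * sgl h)) := fun h =>
    RatA.ev D.cfg.dvd ((RatA.of_co D.co).mul (RatA.sgl h))
  set r : MonoidAlgebra ℂ G := π⁻¹ • appWord χ π d x l - c₀ • x with hr
  have hkey : ∀ h : G, Dv M π 2
      (ev (χ : G → ℂ) (appWord χ π d x l * sgl h) - π * (c₀ * ev (χ : G → ℂ) (x * sgl h))) := by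
    intro h
    have h1 : Dv M π 2 (ev (χ : G → ℂ) (s * sgl h) - ev (χ : G → ℂ) (appWord χ π d x l * sgl h)) :=
      (near_dv D.unif ((D.word_near l).mul hM (Near.refl hM 6 (sgl h)) (D.appWord_rat l).ring
        (AlgRing.single hM h))).mono hM D.unif.ring (by omega)
    have h2 : ev (χ : G → ℂ) (s * sgl h) =
        π * (ev (χ : G → ℂ) (e * b (some h) * e) + scal χ x d h * Y.trace) := by
      rw [← D.aff.trace, map_mul, hsY, smul_mul_assoc, Matrix.trace_smul, smul_eq_mul]
      congr 1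
      calc (Y * Φ (sgl h)).trace = (Φ e * Y * Φ e * Φ (sgl h)).trace := by rw [hEY.1, hEY.2]
        _ = (Y * Φ e * Φ (sgl h) * Φ e).trace := by
            rw [show Φ e * Y * Φ e * Φ (sgl h) = Φ e * (Y * Φ e * Φ (sgl h)) by simp only [mul_assoc],
              Matrix.trace_mul_comm]
        _ = (Y * (Φ (gen χ π d e x (some h)) + scal χ x d h • Φ e)).trace := by
            rw [← map_smul, ← map_add,
              show gen χ π d e x (some h) + scal χ x d h • e = e * sgl h * e from sub_add_cancel _ _,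
              map_mul, map_mul]
            simp only [mul_assoc]
        _ = _ := by
            rw [mul_add, Matrix.trace_add, mul_smul_comm, hEY.2, Matrix.trace_smul, smul_eq_mul,
              Matrix.trace_mul_comm, hgY, D.aff.trace]
    have h3 : Dv M π 1 (scal χ x d h * Y.trace - c₀ * ev (χ : G → ℂ) (x * sgl h)) := by
      rw [show scal χ x d h * Y.trace - c₀ * ev (χ : G → ℂ) (x * sgl h) =
        scal χ x d h * (Y.trace - v) +
          c₀ * (ev (χ : G → ℂ) (x * sgl h * x) - ev (χ : G → ℂ) (x * sgl h)) by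
        rw [hc₀, scal]; ring]
      exact (hYv.ring_mul_left hM (D.scal_ring h)).add hM
        (((D.dv_sgl h).mono hM D.unif.ring (show 1 ≤ 6 by omega)).ring_mul_left hM
          (Sys.Un.ring S hc₀r.1))
    have h4 := ((hall (some h)).add hM h3)
    obtain ⟨w, hw, hwe⟩ := h4
    have h5 : Dv M π 2 (ev (χ : G → ℂ) (s * sgl h) - π * (c₀ * ev (χ : G → ℂ) (x * sgl h))) :=
      ⟨w, hw, by rw [h2]; linear_combination π * hwe⟩
    have := h5.sub hM h1
    rwa [show ∀ a b c : ℂ, a - c - (a - b) = b - c from fun a b c => by ring] at this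
  have hrv : ∀ h : G, ev (χ : G → ℂ) (r * sgl h) = π⁻¹ *
      (ev (χ : G → ℂ) (appWord χ π d x l * sgl h) - π * (c₀ * ev (χ : G → ℂ) (x * sgl h))) := fun h => by
    rw [hr, sub_mul, smul_mul_assoc, smul_mul_assoc, ev_sub, ev_smul_left, ev_smul_left, mul_sub,
      inv_mul_cancel_left₀ hπ]
  have hcond : ∀ h : G, S.Un (ev (χ : G → ℂ) (r * sgl h)) ∧ Fix S χ (ev (χ : G → ℂ) (r * sgl h)) ∧
      MemLocalIdeal M (ev (χ : G → ℂ) (r * sgl h)) := by
    intro h
    obtain ⟨z, hz, hze⟩ := D.unif.rat_div 2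
      ((RatA.ev D.cfg.dvd ((D.appWord_rat l).mul (RatA.sgl h))).sub
        (D.unif.rat.mul (hc₀r.mul (hxh h)))) (hkey h)
    have h1 : ev (χ : G → ℂ) (r * sgl h) = π * z := by
      rw [hrv, hze]
      field_simp
    rw [h1]
    exact ⟨(D.unif.rat.mul hz).1, (D.unif.rat.mul hz).2,
      ideal_mul_right hM D.unif.mem (Sys.Un.ring S hz.1)⟩
  obtain ⟨W, hW, hWχ, -, -⟩ := trick D.cfg hcond
  have hΦW : Φ W = Φ r := D.aff.eq fun g => hWχ (sgl g)
  obtain ⟨z, hz, hnear⟩ := D.word_near l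
  obtain ⟨u, hu, hpu⟩ := D.unif.div_p
  refine hl ⟨W + c₀ • x + (u * (p : ℂ) ^ 5) • z, AlgRing.add hM (AlgRing.add hM hW
    (AlgRing.smul hM (Sys.Un.ring S hc₀r.1) D.co.ring)) (AlgRing.smul hM
      (ring_mul hM (Sys.Un.ring S hu) (ring_pow hM (ring_natCast hM p) 5)) hz), ?_⟩
  have h1 : Φ s = π • Φ (W + c₀ • x + (u * (p : ℂ) ^ 5) • z) := by
    have h2 : π * (u * (p : ℂ) ^ 5) = (p : ℂ) ^ 6 := by rw [← mul_assoc, ← hpu]; ring
    rw [hs, hnear, map_add Φ (W + c₀ • x), map_add Φ W, hΦW, hr]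
    simp only [map_add, map_sub, map_smul, smul_add, smul_sub, smul_smul]
    rw [h2, mul_inv_cancel₀ hπ, one_smul]
    abel
  rw [map_mul, map_mul, ← smul_mul_assoc, ← mul_smul_comm, ← h1, ← map_mul, ← map_mul,
    D.word_corner l]

open Classical in
/-- The corner is commutative. -/
theorem DFrame.comm (a c : MonoidAlgebra ℂ G) (ha : AlgRing M a) (hc : AlgRing M c) :
    Φ (e * a * e) * Φ (e * c * e) = Φ (e * c * e) * Φ (e * a * e) := by
  have hM := S.hM
  obtain ⟨l, hl, hmax⟩ := D.exists_max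
  choose b hb hbe using hmax
  obtain ⟨o₀, ho₀⟩ : ∃ o, ¬ MemLocalIdeal M (ev (χ : G → ℂ) (e * b o * e)) := by
    by_contra h
    push Not at h
    exact D.false_of_all hl hb hbe fun o =>
      (D.quot_dichotomy o (hb o) (hbe o)).resolve_right (not_not.2 (h o))
  set E := Φ e with hE
  set Y : Matrix (Fin n) (Fin n) ℂ := π⁻¹ • Φ (word χ π d e x l) with hY
  have hgY : ∀ o, Φ (gen χ π d e x o) * Y = Φ (e * b o * e) := fun o => by
    rw [hY, mul_smul_comm, ← map_mul, show gen χ π d e x o * word χ π d e x l =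
      word χ π d e x (o :: l) from rfl, hbe, inv_smul_smul₀ D.unif.ne]
  obtain ⟨w, hw, hwe, hbw, -⟩ := corner_inv S D.aff D.pr ((D.pr.ring.mul hM (hb o₀)).mul hM D.pr.ring)
    (corner_sandwich D.pr.idem _) ho₀
  set z := gen χ π d e x o₀ with hz
  set Z := Φ z with hZ
  set V := Y * Φ w with hV
  have hZE := D.map_corner (D.gen_corner o₀)
  rw [← hz, ← hZ, ← hE] at hZE
  have hEV : E * V = V ∧ V * E = V := by
    constructor
    · rw [hV, hY, smul_mul_assoc, mul_smul_comm, ← mul_assoc, (D.map_corner (D.word_corner l)).1]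
    · rw [hV, mul_assoc, (D.map_corner hwe).2]
  have hZV : Z * V = E := by
    rw [hV, ← mul_assoc, hZ, hz, hgY, ← map_mul, hbw]
  have hVZ : V * Z = E := by
    have h1 : (Z + (1 - E)) * (V + (1 - E)) = 1 := by
      rw [add_mul, mul_add, mul_add, hZV, mul_sub, mul_one, hZE.2, sub_self, sub_mul, one_mul,
        hEV.1, sub_self, sub_mul, one_mul, mul_sub, mul_one, hE, D.idem_map]
      abel
    have h2 := congrArg (fun t => E * t * E) (mul_eq_one_comm.1 h1)
    simp only [mul_one] at h2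
    rw [hE, D.idem_map, ← hE] at h2
    refine Eq.trans ?_ h2
    have h5 : E * (V + (1 - E)) = V := by
      rw [mul_add, hEV.1, mul_sub, mul_one, hE, D.idem_map, sub_self, add_zero]
    have h6 : (Z + (1 - E)) * E = Z := by
      rw [add_mul, hZE.2, sub_mul, one_mul, hE, D.idem_map, sub_self, add_zero]
    rw [← mul_assoc E, h5, mul_assoc V, h6]
  have hJ : ∀ t, AlgRing M t → e * t * e = t → Dv M π 1 (ev (χ : G → ℂ) t) →
      ∃ t', AlgRing M t' ∧ e * t' * e = t' ∧ Φ t = Φ t' * Z := by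
    intro t ht hte hv
    obtain ⟨A, hA, hAe⟩ := D.exists_span ht hte hv
    refine ⟨(∑ o, A o • (e * b o * e)) * w, (AlgRing.sum hM fun o _ => AlgRing.smul hM (hA o)
      ((D.pr.ring.mul hM (hb o)).mul hM D.pr.ring)).mul hM hw, corner_mul D.pr.idem ?_ hwe, ?_⟩
    · rw [Finset.mul_sum, Finset.sum_mul]
      exact Finset.sum_congr rfl fun o _ => by
        rw [mul_smul_comm, smul_mul_assoc, corner_sandwich D.pr.idem]
    · conv_lhs => rw [hAe]
      simp only [map_sum, map_smul, map_mul Φ (∑ o, A o • (e * b o * e)), Finset.sum_mul,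
        smul_mul_assoc, ← hgY]
      refine Finset.sum_congr rfl fun o _ => ?_
      congr 1
      calc Φ (gen χ π d e x o) = Φ (gen χ π d e x o) * (V * Z) := by
            rw [hVZ, (D.map_corner (D.gen_corner o)).2]
        _ = _ := by rw [hV, map_mul Φ (e * b o * e), ← hgY]; simp only [mul_assoc]
  have hR : ∀ t, AlgRing M t → e * t * e = t → ∃ s, MemLocalRing M s ∧ ∃ t', AlgRing M t' ∧
      e * t' * e = t' ∧ Φ t = s • E + Φ t' * Z := by
    intro t ht hte
    have hs : MemLocalRing M (ev (χ : G → ℂ) t * (d : ℂ)⁻¹) :=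
      ring_mul hM (ev_ring S χ ht) D.inv_ring
    obtain ⟨t', ht', hte', he'⟩ := hJ (t - (ev (χ : G → ℂ) t * (d : ℂ)⁻¹) • e)
      (AlgRing.sub hM ht (AlgRing.smul hM hs D.pr.ring))
      (by rw [mul_sub, sub_mul, hte, mul_smul_comm, smul_mul_assoc, D.pr.idem, D.pr.idem]) (by
        rw [ev_sub, ev_smul_left, D.value, inv_mul_cancel_right₀ D.d_ne, sub_self]
        exact Dv.zero hM)
    exact ⟨_, hs, t', ht', hte', by rw [← he', map_sub, map_smul, hE]; abel⟩
  have hswap : ∀ t, AlgRing M t → e * t * e = t → ∃ t', AlgRing M t' ∧ e * t' * e = t' ∧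
      Z * Φ t = Φ t' * Z := by
    intro t ht hte
    have hzt : e * (z * t) * e = z * t := corner_mul D.pr.idem (D.gen_corner o₀) hte
    have hv : Dv M π 1 (ev (χ : G → ℂ) (z * t)) := by
      set s := ev (χ : G → ℂ) t * (d : ℂ)⁻¹ with hs
      have hsr : MemLocalRing M s := ring_mul hM (ev_ring S χ ht) D.inv_ring
      obtain ⟨A, hA, hAe⟩ := D.exists_span (b := t - s • e)
        (AlgRing.sub hM ht (AlgRing.smul hM hsr D.pr.ring))
        (by rw [mul_sub, sub_mul, hte, mul_smul_comm, smul_mul_assoc, D.pr.idem, D.pr.idem]) (by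
          rw [ev_sub, ev_smul_left, D.value, hs, inv_mul_cancel_right₀ D.d_ne, sub_self]
          exact Dv.zero hM)
      have hze : z * e = z := by rw [hz, ← D.gen_corner o₀, mul_assoc, D.pr.idem]
      rw [show z * t = s • z + ∑ o, A o • word χ π d e x [o₀, o] by
        calc z * t = z * (s • e + (t - s • e)) := by rw [add_sub_cancel]
          _ = _ := by
            rw [hAe, mul_add, mul_smul_comm, hze, Finset.mul_sum]
            congr 1
            refine Finset.sum_congr rfl fun o _ => ?_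
            rw [mul_smul_comm]
            show A o • (z * gen χ π d e x o) = A o • (z * (gen χ π d e x o * e))
            rw [← D.gen_corner o, mul_assoc (e * gen χ π d e x o) e e, D.pr.idem]]
      rw [ev_add, ev_smul_left, ev_sum_left]
      refine ((D.dv_gen o₀).ring_mul_left hM hsr).add hM (Dv.sum hM fun o _ => ?_)
      rw [ev_smul_left]
      refine Dv.ring_mul_left hM (hA o) ?_
      rcases D.unif.lift (k := 0) (RatA.ev D.cfg.dvd (D.appWord_rat [o₀, o]))
        ((D.dv_word [o₀, o]).mono hM D.unif.ring (by omega))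
          ⟨_, ev_ring S χ (D.word_ring [o₀, o]), by simp⟩ with
        h | ⟨v, -, hv, h⟩
      · exact h
      · rw [pow_zero, one_mul] at h
        exact absurd (h ▸ D.exists_bound.1 o₀ o) hv
    obtain ⟨t', ht', hte', he'⟩ := hJ _ ((D.gen_ring o₀).mul hM ht) hzt hv
    exact ⟨t', ht', hte', by rw [hZ, ← map_mul, he']⟩
  have hswap' : ∀ (m : ℕ) t, AlgRing M t → e * t * e = t → ∃ t', AlgRing M t' ∧ e * t' * e = t' ∧
      Z ^ m * Φ t = Φ t' * Z ^ m := by
    intro m
    induction m with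
    | zero => intro t ht hte; exact ⟨t, ht, hte, by simp⟩
    | succ m ih =>
      intro t ht hte
      obtain ⟨t₁, ht₁, hte₁, he₁⟩ := hswap t ht hte
      obtain ⟨t₂, ht₂, hte₂, he₂⟩ := ih t₁ ht₁ hte₁
      exact ⟨t₂, ht₂, hte₂, by rw [pow_succ, mul_assoc, he₁, ← mul_assoc, he₂, mul_assoc]⟩
  have hmem : ∀ m, E * Z ^ m ∈ Algebra.adjoin ℂ ({Z, E} : Set (Matrix (Fin n) (Fin n) ℂ)) := fun m =>
    mul_mem (Algebra.subset_adjoin (by simp)) (pow_mem (Algebra.subset_adjoin (by simp)) m)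
  have hEZm : ∀ m, E * Z ^ m = Φ (e * z ^ m * e) := by
    intro m
    have hc : Commute E (Z ^ m) := Commute.pow_right (by
      show E * Z = Z * E
      rw [hZE.1, hZE.2]) m
    rw [map_mul, map_mul, map_pow, ← hE, ← hZ, mul_assoc, ← hc.eq, ← mul_assoc, hE, D.idem_map]
  have hdecomp : ∀ (m : ℕ) t, AlgRing M t → e * t * e = t →
      ∃ u, AlgRing M u ∧ e * u * e = u ∧
        Φ u ∈ Algebra.adjoin ℂ ({Z, E} : Set (Matrix (Fin n) (Fin n) ℂ)) ∧
        ∃ t', AlgRing M t' ∧ e * t' * e = t' ∧ Φ t = Φ u + Φ t' * Z ^ m := by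
    intro m
    induction m with
    | zero =>
      intro t ht hte
      exact ⟨0, AlgRing.zero hM, by simp, by simp [zero_mem], t, ht, hte, by simp⟩
    | succ m ih =>
      intro t ht hte
      obtain ⟨u, hu, hue, hum, t₁, ht₁, hte₁, he₁⟩ := ih t ht hte
      obtain ⟨s, hs, t₂, ht₂, hte₂, he₂⟩ := hR t₁ ht₁ hte₁
      refine ⟨u + s • (e * z ^ m * e), AlgRing.add hM hu (AlgRing.smul hM hs
        ((D.pr.ring.mul hM (AlgRing.pow hM (D.gen_ring o₀) m)).mul hM D.pr.ring)),
        by rw [mul_add, add_mul, hue, mul_smul_comm, smul_mul_assoc, corner_sandwich D.pr.idem],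
        ?_, t₂, ht₂, hte₂, ?_⟩
      · rw [map_add, map_smul, ← hEZm]
        exact add_mem hum (Subalgebra.smul_mem _ (hmem m) s)
      · rw [map_add, map_smul, ← hEZm, he₁, he₂, add_mul, smul_mul_assoc, mul_assoc, ← pow_succ',
          add_assoc]
  obtain ⟨-, N, hN, hlen⟩ := D.exists_bound
  have hrep : ∀ m : ℕ, Φ (word χ π d e x (List.replicate m o₀)) = E * Z ^ m := by
    intro m
    induction m with
    | zero => simp [word, hE]
    | succ m ih =>
      rw [List.replicate_succ, word, map_mul, ih, ← hz, ← hZ, ← mul_assoc, hZE.2, pow_succ',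
        ← mul_assoc, hZE.1]
  obtain ⟨bN, hbN, hbNe⟩ := D.inP_of_ideal (hlen _ (List.length_replicate (n := N) (a := o₀)))
  rw [hrep] at hbNe
  have hcomm : ∀ k : ℕ, ∃ t, AlgRing M t ∧
      Φ (e * a * e) * Φ (e * c * e) - Φ (e * c * e) * Φ (e * a * e) = π ^ k • Φ t := by
    intro k
    have hae := corner_sandwich D.pr.idem a
    have hce := corner_sandwich D.pr.idem c
    have har := (D.pr.ring.mul hM ha).mul hM D.pr.ring
    have hcr := (D.pr.ring.mul hM hc).mul hM D.pr.ring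
    set a' := e * a * e with ha'
    set c' := e * c * e with hc'
    obtain ⟨u, hu, hue, hum, a₁, ha₁, hae₁, he₁⟩ := hdecomp (N * k) a' har hae
    obtain ⟨v, hv, hve, hvm, c₁, hc₁, hce₁, he₂⟩ := hdecomp (N * k) c' hcr hce
    have hUV : Φ u * Φ v = Φ v * Φ u := by
      refine (Algebra.commute_of_mem_adjoin_of_forall_mem_commute hvm fun y hy => ?_).eq
      refine (Algebra.commute_of_mem_adjoin_of_forall_mem_commute hum fun y' hy' => ?_).symm
      have hc : E * Z = Z * E := by rw [hZE.1, hZE.2]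
      rcases hy with rfl | hy <;> rcases hy' with rfl | hy'
      · exact Commute.refl _
      · rw [Set.mem_singleton_iff.1 hy']; exact hc.symm
      · rw [Set.mem_singleton_iff.1 hy]; exact hc
      · rw [Set.mem_singleton_iff.1 hy, Set.mem_singleton_iff.1 hy']; exact Commute.refl _
    obtain ⟨v₁, hv₁, -, hv₁e⟩ := hswap' (N * k) v hv hve
    obtain ⟨u₁, hu₁, -, hu₁e⟩ := hswap' (N * k) u hu hue
    obtain ⟨c₂, hc₂, -, hc₂e⟩ := hswap' (N * k) c₁ hc₁ hce₁
    obtain ⟨a₂, ha₂, -, ha₂e⟩ := hswap' (N * k) a₁ ha₁ hae₁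
    set t₀ := u * c₁ + a₁ * v₁ + a₁ * c₂ * z ^ (N * k) -
      (v * a₁ + c₁ * u₁ + c₁ * a₂ * z ^ (N * k)) with ht₀
    have hzr := AlgRing.pow hM (D.gen_ring o₀) (N * k)
    have hC : Φ a' * Φ c' - Φ c' * Φ a' = Φ t₀ * Z ^ (N * k) := by
      rw [he₁, he₂]
      simp only [ht₀, map_sub, map_add, map_mul, map_pow, ← hZ, sub_mul, add_mul, mul_add]
      rw [show Φ a₁ * Z ^ (N * k) * Φ v = Φ a₁ * (Φ v₁ * Z ^ (N * k)) by rw [mul_assoc, hv₁e],
        show Φ a₁ * Z ^ (N * k) * (Φ c₁ * Z ^ (N * k)) =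
          Φ a₁ * (Φ c₂ * Z ^ (N * k) * Z ^ (N * k)) by rw [← hc₂e]; simp only [mul_assoc],
        show Φ c₁ * Z ^ (N * k) * Φ u = Φ c₁ * (Φ u₁ * Z ^ (N * k)) by rw [mul_assoc, hu₁e],
        show Φ c₁ * Z ^ (N * k) * (Φ a₁ * Z ^ (N * k)) =
          Φ c₁ * (Φ a₂ * Z ^ (N * k) * Z ^ (N * k)) by rw [← ha₂e]; simp only [mul_assoc], hUV]
      simp only [mul_assoc]
      abel
    have ht₀r : AlgRing M t₀ := AlgRing.sub hM
      (AlgRing.add hM (AlgRing.add hM (hu.mul hM hc₁) (ha₁.mul hM hv₁)) ((ha₁.mul hM hc₂).mul hM hzr))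
      (AlgRing.add hM (AlgRing.add hM (hv.mul hM ha₁) (hc₁.mul hM hu₁)) ((hc₁.mul hM ha₂).mul hM hzr))
    rcases Nat.eq_zero_or_pos k with rfl | hk
    · exact ⟨t₀, ht₀r, by rw [hC]; simp⟩
    refine ⟨t₀ * (e * bN * e) ^ k, ht₀r.mul hM
      (AlgRing.pow hM ((D.pr.ring.mul hM hbN).mul hM D.pr.ring) k), ?_⟩
    have hCE : (Φ a' * Φ c' - Φ c' * Φ a') * E = Φ a' * Φ c' - Φ c' * Φ a' := by
      rw [sub_mul, mul_assoc, mul_assoc, (D.map_corner hce).2, (D.map_corner hae).2]
    have hcE : Commute E Z := by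
      show E * Z = Z * E
      rw [hZE.1, hZE.2]
    have hpowE : Z ^ (N * k) * E = (E * Z ^ N) ^ k := by
      rw [(hcE.pow_right N).mul_pow, pow_mul, IsIdempotentElem.pow_eq D.idem_map hk.ne',
        ← pow_mul, (hcE.pow_right (N * k)).eq]
    rw [← hCE, hC, mul_assoc, hpowE, hbNe, smul_pow, mul_smul_comm, map_mul Φ t₀, map_pow]
  rw [← sub_eq_zero]
  obtain ⟨q, hq⟩ : ∃ q, Φ q = Φ (e * a * e) * Φ (e * c * e) - Φ (e * c * e) * Φ (e * a * e) :=
    ⟨e * a * e * (e * c * e) - e * c * e * (e * a * e), by simp only [map_sub, map_mul]⟩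
  rw [← hq]
  refine D.aff.zero q fun g => D.unif.eq_zero (ev_ring S χ (AlgRing.single hM g) |> fun _ => ?_) fun m => ?_
  · obtain ⟨t, ht, he⟩ := hcomm 0
    rw [← hq, pow_zero, one_smul] at he
    rw [← D.aff.trace, map_mul, he, ← map_mul, D.aff.trace]
    exact ev_ring S χ (ht.mul hM (AlgRing.single hM g))
  · obtain ⟨t, ht, he⟩ := hcomm m
    rw [← hq] at he
    exact ⟨ev (χ : G → ℂ) (t * sgl g), ev_ring S χ (ht.mul hM (AlgRing.single hM g)), by
      rw [← D.aff.trace, map_mul, he, smul_mul_assoc, Matrix.trace_smul, smul_eq_mul, ← map_mul,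
        D.aff.trace]⟩

/-- The value of the idempotent is one and its image has rank one. -/
theorem DFrame.rank_one : d = 1 ∧ ∀ a, Φ (e * a * e) = ev (χ : G → ℂ) (e * a) • Φ e := by
  have hM := S.hM
  set K : ℂ := (Nat.card G : ℂ) / (χ : G → ℂ) 1 with hK
  have hK0 : K ≠ 0 := div_ne_zero (Nat.cast_ne_zero.2 Nat.card_pos.ne') (IsIrr.one_ne_zero χ.2)
  set E := Φ e with hE
  have hkey : ∀ g : G, Φ (e * sgl g * e) = (ev (χ : G → ℂ) (e * sgl g) * (d : ℂ)⁻¹) • E := by
    intro g
    set X := Φ (e * sgl g * e) with hX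
    have hXE := D.map_corner (corner_sandwich D.pr.idem (sgl g))
    rw [← hX, ← hE] at hXE
    have h1 : E * (∑ h : G, Φ (sgl h⁻¹) * X * Φ (sgl h)) * E =
        X * (E * (∑ h : G, Φ (sgl h⁻¹) * E * Φ (sgl h)) * E) := by
      rw [Finset.mul_sum, Finset.sum_mul, Finset.mul_sum, Finset.sum_mul, Finset.mul_sum]
      refine Finset.sum_congr rfl fun h _ => ?_
      have hc := D.comm (sgl h⁻¹) (sgl g) (AlgRing.single hM _) (AlgRing.single hM _)
      rw [← hX, map_mul Φ (e * sgl h⁻¹), map_mul Φ e, ← hE] at hc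
      calc E * (Φ (sgl h⁻¹) * X * Φ (sgl h)) * E = E * Φ (sgl h⁻¹) * E * X * Φ (sgl h) * E := by
            rw [show E * Φ (sgl h⁻¹) * E * X = E * Φ (sgl h⁻¹) * X by rw [mul_assoc, hXE.1]]
            simp only [mul_assoc]
        _ = X * (E * Φ (sgl h⁻¹) * E) * Φ (sgl h) * E := by rw [hc]
        _ = _ := by simp only [mul_assoc]
    rw [hX, hE, D.aff.conj_sum, D.aff.conj_sum, D.value, ← hX, ← hE, ← hK,
      D.ev_sandwich] at h1
    simp only [mul_smul_comm, smul_mul_assoc, mul_one] at h1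
    rw [hE, D.idem_map, ← hE, hXE.2] at h1
    have h2 := congrArg (fun T => (K * (d : ℂ))⁻¹ • T) h1
    simp only [smul_smul] at h2
    rw [inv_mul_cancel₀ (mul_ne_zero hK0 D.d_ne), one_smul] at h2
    rw [← h2]
    congr 1
    have := D.d_ne
    field_simp
  have hall : ∀ a, Φ (e * a * e) = (ev (χ : G → ℂ) (e * a) * (d : ℂ)⁻¹) • E := by
    intro a
    conv_lhs => rw [← sum_single a, Finset.mul_sum, Finset.sum_mul, map_sum]
    conv_rhs => rw [← sum_single a, Finset.mul_sum, ev_sum_left, Finset.sum_mul, Finset.sum_smul]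
    refine Finset.sum_congr rfl fun g _ => ?_
    rw [mul_smul_comm, smul_mul_assoc, map_smul, hkey, ev_smul_left, smul_smul, mul_assoc]
  have hd1 : d = 1 := by
    have h1 : E * (∑ h : G, Φ (sgl h⁻¹) * E * Φ (sgl h)) * E =
        (∑ h : G, ev (χ : G → ℂ) (e * sgl h) * ev (χ : G → ℂ) (sgl h⁻¹ * e) * ((d : ℂ)⁻¹ * (d : ℂ)⁻¹)) •
          E := by
      rw [Finset.mul_sum, Finset.sum_mul, Finset.sum_smul]
      refine Finset.sum_congr rfl fun h _ => ?_
      calc E * (Φ (sgl h⁻¹) * E * Φ (sgl h)) * E =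
            (E * Φ (sgl h⁻¹) * E) * (E * Φ (sgl h) * E) := by
              rw [show (E * Φ (sgl h⁻¹) * E) * (E * Φ (sgl h) * E) =
                E * Φ (sgl h⁻¹) * (E * E) * Φ (sgl h) * E by simp only [mul_assoc], hE, D.idem_map]
              simp only [mul_assoc]
        _ = _ := by
              rw [hE, ← map_mul, ← map_mul, hkey, ← map_mul, ← map_mul, hkey, smul_mul_smul_comm, hE,
                D.idem_map, D.aff.ev_comm (sgl h⁻¹) e]
              congr 1
              ring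
    rw [D.aff.conj_sum, D.value, ← Finset.sum_mul, conv_ev, if_pos rfl, D.pr.idem, D.value, ← hK] at h1
    simp only [mul_smul_comm, smul_mul_assoc, mul_one] at h1
    rw [hE, D.idem_map] at h1
    have h2 := congrArg Matrix.trace h1
    rw [Matrix.trace_smul, Matrix.trace_smul, D.aff.trace, D.value, smul_eq_mul, smul_eq_mul] at h2
    have := D.d_ne
    field_simp at h2
    have h3 : d * d = 1 := by
      have h4 : ((d * d : ℕ) : ℂ) = ((1 : ℕ) : ℂ) := by
        push_cast
        linear_combination h2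
      exact_mod_cast h4
    exact Nat.eq_one_of_mul_eq_one_right h3
  refine ⟨hd1, fun a => ?_⟩
  rw [hall, hd1, Nat.cast_one, inv_one, mul_one]

omit D

open Classical in
/-- Multiplicity one. -/
theorem Frame.mult (F : Frame S χ π n Φ e x) (hord : ∀ g : G, p ∣ orderOf g → g ^ p = 1)
    (hnum : ¬ p ∣ (Finset.univ.filter fun g : G => p ∣ orderOf g).card)
    (hne : ev (χ : G → ℂ) e ≠ 0) :
    ev (χ : G → ℂ) e = 1 ∧ ∀ a, Φ (e * a * e) = ev (χ : G → ℂ) (e * a) • Φ e := by
  obtain ⟨d, hd⟩ := F.exists_nat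
  have hd0 : d ≠ 0 := fun h => hne (by rw [hd, h, Nat.cast_zero])
  obtain ⟨h1, h2⟩ :=
    (DFrame.mk (S := S) F hd (F.not_dvd hord hnum hd hd0)).rank_one
  exact ⟨by rw [hd, h1, Nat.cast_one], h2⟩

end Cfsg.Agent.Char.Stem
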