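import Cfsg.Agent.Lib.Block.Local
import Cfsg.Agent.Lib.Block.Residue
import Cfsg.Agent.Lib.Block.RootLift
import Cfsg.Agent.Lib.Block.Orth
import Cfsg.Agent.Lib.Char.FieldAut

/-!
The local ring of `ℚ(ω, ζ)` at `M`, where `ω` has order prime to `p` and `ζ` order `p`: it is
discretely valued with uniformizer `ζ - 1`, and the automorphisms fixing `ω` act trivially on its
residues.
-/

set_option autoImplicit false

namespace Cfsg.Agent.Char.Stem

open Cfsg Cfsg.Agent.Block Polynomial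

variable {p : ℕ} {M : Ideal AlgInt}

/-- Two roots of unity, of order prime to `p` and of order `p`, and the automorphisms moving only
the second one. -/
structure Sys (p : ℕ) (M : Ideal AlgInt) where
  hM : IsPModular p M
  /-- The order of the first root. -/
  N : ℕ
  N_pos : 0 < N
  N_cop : ¬ p ∣ N
  /-- The root of order prime to `p`. -/
  ω : ℂ
  prim_ω : IsPrimitiveRoot ω N
  /-- The root of order `p`. -/
  ζ : ℂ
  prim_ζ : IsPrimitiveRoot ζ p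
  /-- The automorphisms. -/
  σ : (ZMod p)ˣ → ℂ ≃+* ℂ
  σ_ω : ∀ j, σ j ω = ω
  σ_ζ : ∀ j, σ j ζ = ζ ^ (j : ZMod p).val

theorem exists_sys [hp : Fact p.Prime] (hM : IsPModular p M) {N : ℕ} (hN : 0 < N) (hcop : ¬ p ∣ N) :
    ∃ S : Sys p M, S.N = N := by
  have hcop' : p.Coprime N := hp.out.coprime_iff_not_dvd.2 hcop
  have hω := Complex.isPrimitiveRoot_exp N hN.ne'
  have hζ := Complex.isPrimitiveRoot_exp p hp.out.ne_zero
  have key : ∀ j : (ZMod p)ˣ, ∃ σ : ℂ ≃+* ℂ,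
      σ (Complex.exp (2 * Real.pi * Complex.I / N)) = Complex.exp (2 * Real.pi * Complex.I / N) ∧
      σ (Complex.exp (2 * Real.pi * Complex.I / p)) =
        Complex.exp (2 * Real.pi * Complex.I / p) ^ (j : ZMod p).val := by
    intro j
    obtain ⟨k, hk1, hk2⟩ := Nat.chineseRemainder hcop' (j : ZMod p).val 1
    have hjp : ¬ p ∣ k := fun h => by
      have h1 : (j : ZMod p).val % p = 0 := by rw [← hk1]; exact Nat.mod_eq_zero_of_dvd h
      rw [Nat.mod_eq_of_lt (ZMod.val_lt _), ZMod.val_eq_zero] at h1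
      exact j.ne_zero h1
    have hkN : k.Coprime N := by
      rw [Nat.coprime_iff_gcd_eq_one, Nat.ModEq.gcd_eq hk2, Nat.gcd_one_left]
    obtain ⟨σ, hσ⟩ := exists_ringAut_pow (p * N) k (Nat.mul_pos hp.out.pos hN)
      (Nat.Coprime.mul_right ((hp.out.coprime_iff_not_dvd.2 hjp).symm) hkN)
    refine ⟨σ, ?_, ?_⟩
    · rw [hσ _ (by rw [pow_mul', hω.pow_eq_one, one_pow]), pow_eq_pow_mod k hω.pow_eq_one,
        show k % N = 1 % N from hk2, ← pow_eq_pow_mod 1 hω.pow_eq_one, pow_one]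
    · rw [hσ _ (by rw [pow_mul, hζ.pow_eq_one, one_pow]), pow_eq_pow_mod k hζ.pow_eq_one,
        show k % p = (j : ZMod p).val % p from hk1, ← pow_eq_pow_mod _ hζ.pow_eq_one]
  choose σ h1 h2 using key
  exact ⟨⟨hM, N, hN, hcop, _, hω, _, hζ, σ, h1, h2⟩, rfl⟩

namespace Sys

variable [hp : Fact p.Prime] (S : Sys p M)

/-- The integers of `ℚ(ω)`. -/
noncomputable def R0 : Subring ℂ := Subring.closure {S.ω}

/-- The integers of `ℚ(ω, ζ)`. -/
noncomputable def R1 : Subring ℂ := Subring.closure {S.ω, S.ζ}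

/-- The localisation of `R0` at `M`. -/
def Un0 (z : ℂ) : Prop :=
  ∃ a ∈ S.R0, ∃ c ∈ S.R0, ¬ MemLocalIdeal M c ∧ z * c = a

/-- The localisation of `R1` at `M`. -/
def Un (z : ℂ) : Prop :=
  ∃ a ∈ S.R1, ∃ c ∈ S.R0, ¬ MemLocalIdeal M c ∧ z * c = a

theorem ω_mem : S.ω ∈ S.R0 := Subring.subset_closure rfl

theorem R0_le : S.R0 ≤ S.R1 := Subring.closure_mono (by simp)

theorem ζ_mem : S.ζ ∈ S.R1 := Subring.subset_closure (by simp)

theorem isIntegral_R1 {z : ℂ} (hz : z ∈ S.R1) : IsIntegral ℤ z := by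
  refine Subring.closure_induction (p := fun z _ => IsIntegral ℤ z) ?_ isIntegral_zero isIntegral_one
    (fun _ _ _ _ => IsIntegral.add) (fun _ _ => IsIntegral.neg) (fun _ _ _ _ => IsIntegral.mul) hz
  rintro z (rfl | rfl)
  · exact S.prim_ω.isIntegral S.N_pos
  · exact S.prim_ζ.isIntegral hp.out.pos

theorem ring_R1 {z : ℂ} (hz : z ∈ S.R1) : MemLocalRing M z :=
  ring_of_integral S.hM (S.isIntegral_R1 hz)

theorem ring_R0 {z : ℂ} (hz : z ∈ S.R0) : MemLocalRing M z := S.ring_R1 (S.R0_le hz)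

include S in
theorem ne_zero_of_unit {z : ℂ} (h : ¬ MemLocalIdeal M z) : z ≠ 0 := fun e =>
  h (e ▸ ideal_zero S.hM)

theorem Un0.un {z : ℂ} (h : S.Un0 z) : S.Un z := by
  obtain ⟨a, ha, c, hc, hcu, e⟩ := h
  exact ⟨a, S.R0_le ha, c, hc, hcu, e⟩

theorem un0_of_mem {z : ℂ} (hz : z ∈ S.R0) : S.Un0 z :=
  ⟨z, hz, 1, one_mem _, ideal_one S.hM, mul_one z⟩

theorem un_of_mem {z : ℂ} (hz : z ∈ S.R1) : S.Un z :=
  ⟨z, hz, 1, one_mem _, ideal_one S.hM, mul_one z⟩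

theorem Un.ring {z : ℂ} (h : S.Un z) : MemLocalRing M z := by
  obtain ⟨a, ha, c, hc, hcu, e⟩ := h
  rw [show z = a * c⁻¹ by rw [← e, mul_inv_cancel_right₀ (S.ne_zero_of_unit hcu)]]
  exact ring_mul S.hM (S.ring_R1 ha) (ring_inv S.hM (S.ring_R0 hc) hcu)

theorem Un.add {x y : ℂ} (hx : S.Un x) (hy : S.Un y) : S.Un (x + y) := by
  obtain ⟨a, ha, c, hc, hcu, e⟩ := hx
  obtain ⟨b, hb, d, hd, hdu, f⟩ := hy
  exact ⟨a * d + b * c, add_mem (mul_mem ha (S.R0_le hd)) (mul_mem hb (S.R0_le hc)), c * d,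
    mul_mem hc hd, ideal_notMem_mul S.hM (S.ring_R0 hc) (S.ring_R0 hd) hcu hdu,
    by rw [← e, ← f]; ring⟩

theorem Un.mul {x y : ℂ} (hx : S.Un x) (hy : S.Un y) : S.Un (x * y) := by
  obtain ⟨a, ha, c, hc, hcu, e⟩ := hx
  obtain ⟨b, hb, d, hd, hdu, f⟩ := hy
  exact ⟨a * b, mul_mem ha hb, c * d, mul_mem hc hd,
    ideal_notMem_mul S.hM (S.ring_R0 hc) (S.ring_R0 hd) hcu hdu, by rw [← e, ← f]; ring⟩

/-- The local ring of `ℚ(ω, ζ)` as a subring. -/
noncomputable def U : Subring ℂ where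
  carrier := {z | S.Un z}
  mul_mem' := Un.mul S
  one_mem' := S.un_of_mem (one_mem _)
  add_mem' := Un.add S
  zero_mem' := S.un_of_mem (zero_mem _)
  neg_mem' := fun {x} hx => by simpa using Un.mul S (S.un_of_mem (neg_mem (one_mem _))) hx

theorem Un0.add {x y : ℂ} (hx : S.Un0 x) (hy : S.Un0 y) : S.Un0 (x + y) := by
  obtain ⟨a, ha, c, hc, hcu, e⟩ := hx
  obtain ⟨b, hb, d, hd, hdu, f⟩ := hy
  exact ⟨a * d + b * c, add_mem (mul_mem ha hd) (mul_mem hb hc), c * d,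
    mul_mem hc hd, ideal_notMem_mul S.hM (S.ring_R0 hc) (S.ring_R0 hd) hcu hdu,
    by rw [← e, ← f]; ring⟩

theorem Un0.mul {x y : ℂ} (hx : S.Un0 x) (hy : S.Un0 y) : S.Un0 (x * y) := by
  obtain ⟨a, ha, c, hc, hcu, e⟩ := hx
  obtain ⟨b, hb, d, hd, hdu, f⟩ := hy
  exact ⟨a * b, mul_mem ha hb, c * d, mul_mem hc hd,
    ideal_notMem_mul S.hM (S.ring_R0 hc) (S.ring_R0 hd) hcu hdu, by rw [← e, ← f]; ring⟩

/-- The local ring of `ℚ(ω)` as a subring. -/
noncomputable def U0 : Subring ℂ where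
  carrier := {z | S.Un0 z}
  mul_mem' := Un0.mul S
  one_mem' := S.un0_of_mem (one_mem _)
  add_mem' := Un0.add S
  zero_mem' := S.un0_of_mem (zero_mem _)
  neg_mem' := fun {x} hx => by simpa using Un0.mul S (S.un0_of_mem (neg_mem (one_mem _))) hx

/-! ### The unramified part -/

theorem exists_poly {a : ℂ} (ha : a ∈ S.R0) : ∃ P : ℤ[X], a = aeval S.ω P := by
  refine Subring.closure_induction (p := fun a _ => ∃ P : ℤ[X], a = aeval S.ω P) ?_ ⟨0, by simp⟩ ⟨1, by simp⟩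
    ?_ ?_ ?_ ha
  · rintro z rfl
    exact ⟨X, by simp⟩
  · rintro _ _ _ _ ⟨P, rfl⟩ ⟨Q, rfl⟩
    exact ⟨P + Q, by simp⟩
  · rintro _ _ ⟨P, rfl⟩
    exact ⟨-P, by simp⟩
  · rintro _ _ _ _ ⟨P, rfl⟩ ⟨Q, rfl⟩
    exact ⟨P * Q, by simp⟩

theorem aeval_mem (P : ℤ[X]) : aeval S.ω P ∈ S.R0 := by
  rw [aeval_eq_sum_range]
  exact sum_mem fun i _ => by
    rw [zsmul_eq_mul]
    exact mul_mem (intCast_mem _ _) (pow_mem S.ω_mem _)

/-- An integer of `ℚ(ω)` in `M` is a multiple of `p`. -/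
theorem div_p {a : ℂ} (ha : a ∈ S.R0) (hI : MemLocalIdeal M a) : ∃ b, S.Un0 b ∧ a = p * b := by
  classical
  letI := resInst S.hM
  haveI : CharP (ResField S.hM) p := resField_charP S.hM
  set k := ResField S.hM
  obtain ⟨P, rfl⟩ := S.exists_poly ha
  let c : ZMod p →+* k := ZMod.castHom (dvd_refl p) k
  let ωb : k := red S.hM S.ω
  let f : (ZMod p)[X] →+* k := eval₂RingHom c ωb
  let π : ℤ[X] →+* (ZMod p)[X] := mapRingHom (Int.castRingHom (ZMod p))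
  let e : S.R0 →+* k :=
    { toFun := fun z => red S.hM (z : ℂ)
      map_one' := red_one S.hM
      map_mul' := fun x y => red_mul S.hM (S.ring_R0 x.2) (S.ring_R0 y.2)
      map_zero' := red_zero S.hM
      map_add' := fun x y => red_add S.hM (S.ring_R0 x.2) (S.ring_R0 y.2) }
  let g : ℤ[X] →+* S.R0 := (aeval (⟨S.ω, S.ω_mem⟩ : S.R0)).toRingHom
  have hg : ∀ Q : ℤ[X], (g Q : ℂ) = aeval S.ω Q := fun Q => by
    show ((aeval (⟨S.ω, S.ω_mem⟩ : S.R0)) Q : ℂ) = _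
    exact (aeval_algHom_apply ((S.R0.subtype).toIntAlgHom) _ Q).symm
  have heq : ∀ Q : ℤ[X], f (π Q) = red S.hM (aeval S.ω Q) := fun Q => by
    have h1 : f.comp π = e.comp g := by
      refine Polynomial.ringHom_ext (fun n => ?_) ?_
      · simp
      · simp [f, π, e, g, ωb]
    rw [← hg Q]
    exact RingHom.congr_fun h1 Q
  have hX : f (X ^ S.N - 1) = 0 := by
    have := heq (X ^ S.N - 1)
    simp only [map_sub, map_pow, aeval_X, S.prim_ω.pow_eq_one, map_one, sub_self, red_zero] at this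
    simpa [π] using this
  haveI : NeZero (S.N : ZMod p) := ⟨fun h => S.N_cop ((CharP.cast_eq_zero_iff (ZMod p) p _).1 h)⟩
  have hsep : ((X : (ZMod p)[X]) ^ S.N - 1).Separable := by
    simpa using separable_X_pow_sub_C (F := ZMod p) 1 (NeZero.ne _) one_ne_zero
  obtain ⟨q, hq⟩ := (IsPrincipalIdealRing.principal (RingHom.ker f)).principal
  have hdiv : ∀ Q, f Q = 0 → q ∣ Q := fun Q hQ => by
    have : Q ∈ RingHom.ker f := hQ
    rw [hq] at this
    exact Ideal.mem_span_singleton.1 this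
  have hfq : f q = 0 := by
    have : q ∈ RingHom.ker f := by rw [hq]; exact Ideal.mem_span_singleton_self q
    exact this
  obtain ⟨s, hs⟩ := hdiv (π P) (by rw [heq]; exact (red_eq_zero S.hM (S.ring_R0 ha)).2 hI)
  obtain ⟨r, hr⟩ := hdiv _ hX
  have hfr : f r ≠ 0 := fun h0 => by
    obtain ⟨u, v, huv⟩ : IsCoprime q r := by
      rw [hr] at hsep
      exact hsep.isCoprime
    have := congrArg f huv
    rw [map_add, map_mul, map_mul, hfq, h0, mul_zero, mul_zero, add_zero, map_one] at this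
    exact zero_ne_one this
  have hsurj : Function.Surjective π := Polynomial.map_surjective _ ZMod.intCast_surjective
  obtain ⟨Q, rfl⟩ := hsurj q
  obtain ⟨T, rfl⟩ := hsurj s
  obtain ⟨R, rfl⟩ := hsurj r
  have hker : ∀ D : ℤ[X], π D = 0 → ∃ D', D = C (p : ℤ) * D' := fun D hD => by
    refine (C_dvd_iff_dvd_coeff _ _).2 fun i => ?_
    have h1 := congrArg (fun F => coeff F i) hD
    simp only [π, coe_mapRingHom, coeff_map, coeff_zero, eq_intCast] at h1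
    exact (ZMod.intCast_zmod_eq_zero_iff_dvd _ p).1 h1
  obtain ⟨D₁, hD₁⟩ := hker (P - Q * T) (by rw [map_sub, map_mul, hs, sub_self])
  obtain ⟨D₂, hD₂⟩ := hker (X ^ S.N - 1 - Q * R) (by rw [map_sub, map_mul, ← hr]; simp [π])
  have hRu : ¬ MemLocalIdeal M (aeval S.ω R) := fun h => hfr (by
    rw [heq]; exact (red_eq_zero S.hM (S.ring_R0 (S.aeval_mem R))).2 h)
  have h1 := congrArg (aeval S.ω) hD₁
  have h2 := congrArg (aeval S.ω) hD₂
  simp only [map_sub, map_mul, map_pow, aeval_X, map_one, S.prim_ω.pow_eq_one, sub_self, zero_sub,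
    aeval_C, map_natCast] at h1 h2
  refine ⟨aeval S.ω D₁ - aeval S.ω D₂ * aeval S.ω T * (aeval S.ω R)⁻¹,
    ⟨aeval S.ω D₁ * aeval S.ω R - aeval S.ω D₂ * aeval S.ω T, ?_, _, S.aeval_mem R, hRu, ?_⟩, ?_⟩
  · exact sub_mem (mul_mem (S.aeval_mem _) (S.aeval_mem _)) (mul_mem (S.aeval_mem _) (S.aeval_mem _))
  · rw [sub_mul, inv_mul_cancel_right₀ (S.ne_zero_of_unit hRu)]
  · have hne := S.ne_zero_of_unit hRu
    field_simp
    linear_combination (aeval S.ω R) * h1 - (aeval S.ω T) * h2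

theorem Un0.div_p {x : ℂ} (hx : S.Un0 x) (hI : MemLocalIdeal M x) :
    ∃ b, S.Un0 b ∧ x = p * b := by
  obtain ⟨a, ha, c, hc, hcu, e⟩ := hx
  obtain ⟨b, hb, hab⟩ := S.div_p ha (e ▸ ideal_mul_right S.hM hI (S.ring_R0 hc))
  refine ⟨b * c⁻¹, Un0.mul S hb ⟨1, one_mem _, c, hc, hcu,
    inv_mul_cancel₀ (S.ne_zero_of_unit hcu)⟩, ?_⟩
  rw [← mul_assoc, ← hab, ← e, mul_inv_cancel_right₀ (S.ne_zero_of_unit hcu)]

/-! ### The uniformizer -/

/-- The uniformizer. -/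
def lam : ℂ := S.ζ - 1

theorem lam_mem : S.lam ∈ S.R1 := sub_mem S.ζ_mem (one_mem _)

theorem lam_ne : S.lam ≠ 0 := sub_ne_zero.2 (S.prim_ζ.ne_one hp.out.one_lt)

theorem ideal_lam : MemLocalIdeal M S.lam :=
  ideal_root_sub_one S.hM (k := 1) (by rw [pow_one, S.prim_ζ.pow_eq_one])

theorem exists_split {a : ℂ} (ha : a ∈ S.R1) : ∃ c ∈ S.R0, ∃ b ∈ S.R1, a = c + S.lam * b := by
  refine Subring.closure_induction (p := fun a _ => ∃ c ∈ S.R0, ∃ b ∈ S.R1, a = c + S.lam * b) ?_ ?_ ?_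
    ?_ ?_ ?_ ha
  · rintro z (rfl | rfl)
    · exact ⟨_, S.ω_mem, 0, zero_mem _, by ring⟩
    · exact ⟨1, one_mem _, 1, one_mem _, by rw [lam]; ring⟩
  · exact ⟨0, zero_mem _, 0, zero_mem _, by ring⟩
  · exact ⟨1, one_mem _, 0, zero_mem _, by ring⟩
  · rintro _ _ _ _ ⟨c, hc, b, hb, rfl⟩ ⟨c', hc', b', hb', rfl⟩
    exact ⟨_, add_mem hc hc', _, add_mem hb hb', by ring⟩
  · rintro _ _ ⟨c, hc, b, hb, rfl⟩
    exact ⟨_, neg_mem hc, _, neg_mem hb, by ring⟩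
  · rintro _ _ _ _ ⟨c, hc, b, hb, rfl⟩ ⟨c', hc', b', hb', rfl⟩
    exact ⟨_, mul_mem hc hc', c * b' + b * c' + S.lam * b * b',
      add_mem (add_mem (mul_mem (S.R0_le hc) hb') (mul_mem hb (S.R0_le hc')))
        (mul_mem (mul_mem S.lam_mem hb) hb'), by ring⟩

theorem p_eq : ∃ w ∈ S.R1, (p : ℂ) = S.lam * w := by
  have h := S.prim_ζ.geom_sum_eq_zero hp.out.one_lt
  have hb : ∀ i : ℕ, ∃ b ∈ S.R1, S.ζ ^ i - 1 = S.lam * b := fun i =>
    ⟨∑ j ∈ Finset.range i, S.ζ ^ j, sum_mem fun j _ => pow_mem S.ζ_mem j,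
      by rw [lam, mul_comm, geom_sum_mul]⟩
  choose b hb hbe using hb
  refine ⟨-∑ i ∈ Finset.range p, b i, neg_mem (sum_mem fun i _ => hb i), ?_⟩
  rw [mul_neg, Finset.mul_sum, Finset.sum_congr rfl fun i _ => (hbe i).symm,
    Finset.sum_sub_distrib, h]
  simp

/-- An element of the local ring in the maximal ideal is a multiple of `ζ - 1`. -/
theorem Un.div_lam {x : ℂ} (hx : S.Un x) (hI : MemLocalIdeal M x) :
    ∃ y, S.Un y ∧ x = S.lam * y := by
  obtain ⟨a, ha, c, hc, hcu, e⟩ := hx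
  obtain ⟨a₀, ha₀, b, hb, hab⟩ := S.exists_split ha
  obtain ⟨d, hd, had⟩ := S.div_p ha₀ (by
    rw [show a₀ = a - S.lam * b by rw [hab]; ring, ← e]
    exact ideal_sub S.hM (ideal_mul_right S.hM hI (S.ring_R0 hc))
      (ideal_mul_right S.hM S.ideal_lam (S.ring_R1 hb)))
  obtain ⟨w, hw, hpw⟩ := S.p_eq
  refine ⟨(w * d + b) * c⁻¹, Un.mul S (Un.add S (Un.mul S (S.un_of_mem hw) (Un0.un S hd))
    (S.un_of_mem hb)) ⟨1, one_mem _, c, hc, hcu, inv_mul_cancel₀ (S.ne_zero_of_unit hcu)⟩, ?_⟩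
  rw [← mul_assoc, mul_add, ← mul_assoc, ← hpw, ← had, ← hab, ← e,
    mul_inv_cancel_right₀ (S.ne_zero_of_unit hcu)]

end Sys

end Cfsg.Agent.Char.Stem
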