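import Cfsg.Agent.Lib.Char.Stem.Idem
import Cfsg.Agent.Lib.Char.Galois
import Cfsg.Agent.Lib.Char.Schur

/-!
The values of one irreducible character of degree prime to `p` on the group algebra when `p` divides
the group order once: the uniformizer of its field of values, and the element of the integral group
algebra attached to a functional whose values lie in the maximal ideal.
-/

set_option autoImplicit false
set_option linter.unusedSectionVars false

namespace Cfsg.Agent.Char.Stem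

open Cfsg Cfsg.Agent.Block Cfsg.Agent.Char.Spec Cfsg.Agent.Char.BP Cfsg.Agent.Char.Res
  Cfsg.Agent.Char.Corner Cfsg.Agent.Char.Decomp
open scoped ComplexConjugate

universe u

variable {G : Type u} [Group G] [Fintype G] [DecidableEq G] {p : ℕ} {M : Ideal AlgInt} [hp : Fact p.Prime]

/-- An element of the group as an element of the group algebra. -/
noncomputable abbrev sgl (g : G) : MonoidAlgebra ℂ G := MonoidAlgebra.single g 1

/-- The standing hypotheses. -/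
structure Cfg (S : Sys p M) (χ : IrrCharacter G) : Prop where
  dvd : Nat.card G ∣ p * S.N
  fac : (Nat.card G).factorization p = 1
  deg : ¬ p ∣ charDegree (χ : G → ℂ)

/-- The conjugate character. -/
noncomputable def tw (S : Sys p M) (j : (ZMod p)ˣ) (χ : IrrCharacter G) : IrrCharacter G :=
  ⟨fun g => S.σ j ((χ : G → ℂ) g), IsIrr.map_ringAut χ.2 (S.σ j)⟩

/-- Fixed by the automorphisms fixing the character. -/
def Fix (S : Sys p M) (χ : IrrCharacter G) (y : ℂ) : Prop :=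
  ∀ j : (ZMod p)ˣ, tw S j χ = χ → S.σ j y = y

/-! ### Extended values -/

theorem sum_single (x : MonoidAlgebra ℂ G) : ∑ g : G, x.coeff g • sgl g = x := by
  ext g
  simp [MonoidAlgebra.coeff_sum, Finsupp.single_apply]

theorem ev_smul_left (f : G → ℂ) (c : ℂ) (a : MonoidAlgebra ℂ G) : ev f (c • a) = c * ev f a := by
  simp only [ev, MonoidAlgebra.coeff_smul, Finsupp.smul_apply, smul_eq_mul, Finset.mul_sum, mul_assoc]

theorem ev_sum_left {ι : Type*} (f : G → ℂ) (s : Finset ι) (a : ι → MonoidAlgebra ℂ G) :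
    ev f (∑ i ∈ s, a i) = ∑ i ∈ s, ev f (a i) := by
  simp only [ev, MonoidAlgebra.coeff_sum, Finsupp.coe_finsetSum, Finset.sum_apply, Finset.sum_mul]
  rw [Finset.sum_comm]

theorem ev_sgl (f : G → ℂ) (g : G) : ev f (sgl g) = f g := by
  simp only [ev, MonoidAlgebra.coeff_single]
  rw [Finset.sum_eq_single g]
  · simp
  · intro b _ hb; simp [hb]
  · simp

theorem ev_mul_sgl (f : G → ℂ) (a : MonoidAlgebra ℂ G) (h : G) :
    ev f (a * sgl h) = ∑ g : G, a.coeff g * f (g * h) := by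
  conv_lhs => rw [← sum_single a, Finset.sum_mul]
  rw [ev_sum_left]
  refine Finset.sum_congr rfl fun g _ => ?_
  rw [smul_mul_assoc, ev_smul_left, MonoidAlgebra.single_mul_single, one_mul, ev_sgl]

theorem ev_sgl_mul (f : G → ℂ) (a : MonoidAlgebra ℂ G) (h : G) :
    ev f (sgl h * a) = ∑ g : G, a.coeff g * f (h * g) := by
  conv_lhs => rw [← sum_single a, Finset.mul_sum]
  rw [ev_sum_left]
  refine Finset.sum_congr rfl fun g _ => ?_
  rw [mul_smul_comm, ev_smul_left, MonoidAlgebra.single_mul_single, one_mul, ev_sgl]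

theorem ev_ring (S : Sys p M) (χ : IrrCharacter G) {a : MonoidAlgebra ℂ G} (ha : AlgRing M a) :
    MemLocalRing M (ev (χ : G → ℂ) a) :=
  ring_sum S.hM fun g _ => ring_mul S.hM (ha g)
    (ring_of_integral S.hM (IsChar.isIntegral (IsIrr.isCharacter χ.2) g))

theorem Near.ev {k : ℕ} (S : Sys p M) (χ : IrrCharacter G) {a b : MonoidAlgebra ℂ G}
    (h : Near M p k a b) :
    ∃ y, MemLocalRing M y ∧ Spec.ev (χ : G → ℂ) a = Spec.ev (χ : G → ℂ) b + (p : ℂ) ^ k * y := by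
  obtain ⟨z, hz, rfl⟩ := h
  exact ⟨_, ev_ring S χ hz, by rw [ev_add, ev_smul_left]⟩

/-! ### Values in the local ring -/

theorem value_un {S : Sys p M} {χ : IrrCharacter G} (hc : Nat.card G ∣ p * S.N) (g : G) :
    S.Un ((χ : G → ℂ) g) := by
  obtain ⟨n, ρ, hρ, he⟩ := χ.2
  obtain ⟨b, c, -, hcr, hk⟩ := exists_rep_eigenbasis ρ g
  have h1 := hk 1
  simp only [pow_one] at h1
  rw [← he, h1]
  refine (S.U).sum_mem fun i _ => ?_
  have hcop : S.N.Coprime p := (hp.out.coprime_iff_not_dvd.2 S.N_cop).symm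
  have hprim : IsPrimitiveRoot (S.ω * S.ζ) (p * S.N) := by
    rw [IsPrimitiveRoot.iff_orderOf, (Commute.all _ _).orderOf_mul_eq_mul_orderOf_of_coprime
      (by rwa [← S.prim_ω.eq_orderOf, ← S.prim_ζ.eq_orderOf]), ← S.prim_ω.eq_orderOf,
      ← S.prim_ζ.eq_orderOf, mul_comm]
  have hci : c i ^ (p * S.N) = 1 := by
    obtain ⟨m, hm⟩ := (orderOf_dvd_natCard g).trans hc
    rw [hm, pow_mul, hcr, one_pow]
  haveI : NeZero (p * S.N) := ⟨(Nat.mul_pos hp.out.pos S.N_pos).ne'⟩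
  obtain ⟨k, -, hk'⟩ := hprim.eq_pow_of_pow_eq_one hci
  rw [← hk']
  exact (S.U).pow_mem (Sys.Un.mul S (S.un_of_mem (S.R0_le S.ω_mem)) (S.un_of_mem S.ζ_mem)) k

variable {S : Sys p M} {χ : IrrCharacter G}

theorem ev_un (hc : Nat.card G ∣ p * S.N) {x : MonoidAlgebra ℂ G} (hx : Co S x) :
    S.Un (ev (χ : G → ℂ) x) :=
  (S.U).sum_mem fun g _ => Sys.Un.mul S (Sys.Un0.un S (hx g)) (value_un hc g)

theorem σ_ev (j : (ZMod p)ˣ) {x : MonoidAlgebra ℂ G} (hx : Co S x) :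
    S.σ j (ev (χ : G → ℂ) x) = ev (tw S j χ : G → ℂ) x := by
  simp only [ev, map_sum, map_mul]
  exact Finset.sum_congr rfl fun g _ => by rw [S.σ_U0 j (hx g)]; rfl

theorem ev_fix {x : MonoidAlgebra ℂ G} (hx : Co S x) : Fix S χ (ev (χ : G → ℂ) x) :=
  fun j hj => by rw [σ_ev j hx, hj]

theorem tw_comp (hc : Nat.card G ∣ p * S.N) (i j : (ZMod p)ˣ) :
    tw S i (tw S j χ) = tw S (i * j) χ :=
  Subtype.ext (funext fun g => S.σ_comp i j (value_un hc g))

theorem tw_one (hc : Nat.card G ∣ p * S.N) : tw S 1 χ = χ :=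
  Subtype.ext (funext fun g => S.σ_one (value_un hc g))

theorem Fix.mul {y z : ℂ} (hy : Fix S χ y) (hz : Fix S χ z) : Fix S χ (y * z) :=
  fun j hj => by rw [map_mul, hy j hj, hz j hj]

theorem Fix.sub {y z : ℂ} (hy : Fix S χ y) (hz : Fix S χ z) : Fix S χ (y - z) :=
  fun j hj => by rw [map_sub, hy j hj, hz j hj]

theorem Fix.of_un0 {y : ℂ} (hy : S.Un0 y) : Fix S χ y := fun j _ => S.σ_U0 j hy

/-! ### The uniformizer of the field of values -/

/-- A generator of the maximal ideal of the fixed ring. -/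
structure Unif (S : Sys p M) (χ : IrrCharacter G) (π : ℂ) : Prop where
  un : S.Un π
  fix : Fix S χ π
  mem : MemLocalIdeal M π
  ne : π ≠ 0
  div : ∀ y, S.Un y → Fix S χ y → MemLocalIdeal M y → ∃ z, S.Un z ∧ Fix S χ z ∧ y = π * z

theorem exists_unif (S : Sys p M) (χ : IrrCharacter G) : ∃ π, Unif S χ π := by
  classical
  let P : ℕ → Prop := fun k => ∃ u, S.Un u ∧ ¬ MemLocalIdeal M u ∧ Fix S χ (S.lam ^ k * u) ∧
    MemLocalIdeal M (S.lam ^ k * u)
  have hP : ∀ y, S.Un y → Fix S χ y → MemLocalIdeal M y → y ≠ 0 →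
      ∃ k u, S.Un u ∧ ¬ MemLocalIdeal M u ∧ y = S.lam ^ k * u ∧ P k := by
    intro y hy hfy hI h0
    obtain ⟨k, u, hu, huu, e⟩ := S.exists_decomp hy h0
    exact ⟨k, u, hu, huu, e, u, hu, huu, e ▸ hfy, e ▸ hI⟩
  have hp0 : (p : ℂ) ≠ 0 := Nat.cast_ne_zero.2 hp.out.ne_zero
  have hpU : S.Un0 (p : ℂ) := natCast_mem S.U0 p
  have hex : ∃ k, P k := by
    obtain ⟨k, u, -, -, -, h⟩ := hP p (Sys.Un0.un S hpU) (Fix.of_un0 hpU) (ideal_p S.hM) hp0
    exact ⟨k, h⟩
  obtain ⟨u, hu, huu, hfix, hI⟩ := Nat.find_spec hex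
  set k₀ := Nat.find hex
  have hne : S.lam ^ k₀ * u ≠ 0 := mul_ne_zero (pow_ne_zero _ S.lam_ne) (S.ne_zero_of_unit huu)
  refine ⟨S.lam ^ k₀ * u, Sys.Un.mul S ((S.U).pow_mem (S.un_of_mem S.lam_mem) _) hu, hfix, hI, hne,
    fun y hy hfy hyI => ?_⟩
  by_cases h0 : y = 0
  · exact ⟨0, (S.U).zero_mem, fun j _ => map_zero _, by rw [h0, mul_zero]⟩
  obtain ⟨k, v, hv, -, e, hk⟩ := hP y hy hfy hyI h0
  have hle : k₀ ≤ k := Nat.find_min' hex hk
  have hz : y = S.lam ^ k₀ * u * (S.lam ^ (k - k₀) * (v * u⁻¹)) := by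
    rw [e, show S.lam ^ k₀ * u * (S.lam ^ (k - k₀) * (v * u⁻¹)) =
      S.lam ^ k₀ * S.lam ^ (k - k₀) * v * (u * u⁻¹) by ring,
      mul_inv_cancel₀ (S.ne_zero_of_unit huu), mul_one, ← pow_add, Nat.add_sub_cancel' hle]
  refine ⟨_, Sys.Un.mul S ((S.U).pow_mem (S.un_of_mem S.lam_mem) _)
    (Sys.Un.mul S hv (Sys.Un.inv S hu huu)), fun j hj => ?_, hz⟩
  refine mul_left_cancel₀ hne ?_
  rw [← hz]
  have h2 := hfy j hj
  rw [hz, map_mul, hfix j hj] at h2
  exact h2.trans hz.symm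

variable {π : ℂ} (U : Unif S χ π)
include U

theorem Unif.div_p : ∃ z, S.Un z ∧ (p : ℂ) = π * z := by
  obtain ⟨z, hz, -, e⟩ := U.div p (Sys.Un0.un S (natCast_mem S.U0 p))
    (Fix.of_un0 (natCast_mem S.U0 p)) (ideal_p S.hM)
  exact ⟨z, hz, e⟩

theorem Unif.pow_div {y : ℂ} (hy : MemLocalRing M y) :
    ∃ y', MemLocalRing M y' ∧ π ^ (p - 1) * y = p * y' := by
  obtain ⟨z, hz, e⟩ := Sys.Un.div_lam S U.un U.mem
  obtain ⟨y', hy', e'⟩ := S.lam_pow (ring_mul S.hM (ring_pow S.hM (Sys.Un.ring S hz) (p - 1)) hy)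
  exact ⟨y', hy', by rw [e, mul_pow, mul_assoc, e']⟩

/-- An element divisible by every power of the uniformizer is zero. -/
theorem Unif.eq_zero {y : ℂ} (hy : MemLocalRing M y)
    (h : ∀ m : ℕ, ∃ z, MemLocalRing M z ∧ y = π ^ m * z) : y = 0 := by
  obtain ⟨a, b, hb, rfl⟩ := hy
  by_contra h0
  have ha : (a : ℂ) ≠ 0 := fun e => h0 (by rw [e, zero_div])
  obtain ⟨m, hm⟩ := Sys.bound S.hM a.2 ha
  have hpow : ∀ (m : ℕ) (z : ℂ), MemLocalRing M z →
      ∃ z', MemLocalRing M z' ∧ π ^ ((p - 1) * m) * z = (p : ℂ) ^ m * z' := by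
    intro m
    induction m with
    | zero => intro z hz; exact ⟨z, hz, by simp⟩
    | succ m ih =>
      intro z hz
      obtain ⟨z₁, hz₁, e₁⟩ := U.pow_div hz
      obtain ⟨z₂, hz₂, e₂⟩ := ih _ hz₁
      exact ⟨z₂, hz₂, by rw [mul_add, mul_one, pow_add, mul_assoc, e₁, mul_left_comm, e₂, pow_succ']; ring⟩
  obtain ⟨z, hz, e⟩ := h ((p - 1) * m)
  obtain ⟨z', hz', e'⟩ := hpow m z hz
  refine hm ⟨z' * (b : ℂ), ring_mul S.hM hz' (ring_coe S.hM b), ?_⟩
  rw [← mul_assoc, ← e', ← e, div_mul_cancel₀ _ (pmod_coe_ne_zero hb)]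

/-- The automorphisms move the uniformizer by units. -/
theorem Unif.σ (hc : Nat.card G ∣ p * S.N) (j : (ZMod p)ˣ) :
    ∃ z, S.Un z ∧ ¬ MemLocalIdeal M z ∧ S.σ j π = π * z := by
  have hd : ∀ j, ∃ z, S.Un z ∧ S.σ j π = π * z := fun j => by
    have hU := Sys.Un.σ S j U.un
    obtain ⟨z, hz, -, e⟩ := U.div (S.σ j π) hU.1 (fun i hi => by
      rw [S.σ_comp i j U.un, mul_comm i j, ← S.σ_comp j i U.un, U.fix i hi])
      ((S.σ_unit j U.un).2 U.mem)
    exact ⟨z, hz, e⟩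
  obtain ⟨z, hz, e⟩ := hd j
  obtain ⟨w, hw, e'⟩ := hd j⁻¹
  refine ⟨z, hz, fun hI => ?_, e⟩
  have h1 := congrArg (S.σ j) e'
  rw [S.σ_comp j j⁻¹ U.un, mul_inv_cancel, S.σ_one U.un, map_mul, e, mul_assoc] at h1
  have h2 : z * S.σ j w = 1 := mul_left_cancel₀ U.ne (by rw [← h1, mul_one])
  exact ideal_one S.hM (h2 ▸ ideal_mul_right S.hM hI (Sys.Un.ring S (Sys.Un.σ S j hw).1))

omit U

/-! ### The element of a functional -/

theorem conv_orth (φ ψ : IrrCharacter G) (g b : G) :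
    ∑ h : G, (φ : G → ℂ) (g * h) * (ψ : G → ℂ) (h⁻¹ * b) =
      if φ = ψ then (Nat.card G : ℂ) * (φ : G → ℂ) (g * b) / (φ : G → ℂ) 1 else 0 := by
  classical
  have h0 : ∑ h : G, (φ : G → ℂ) (g * h) * (ψ : G → ℂ) (h⁻¹ * b) =
      ∑ h : G, (φ : G → ℂ) h⁻¹ * (ψ : G → ℂ) (h * (g * b)) := by
    refine Fintype.sum_equiv ((Equiv.mulLeft g).trans (Equiv.inv G)) _ _ fun h => ?_
    simp [mul_assoc]
  rw [h0, sum_classFun_mul_apply ψ.2 (f := fun h => (φ : G → ℂ) h⁻¹) (fun a t => by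
    show (φ : G → ℂ) (t * a * t⁻¹)⁻¹ = (φ : G → ℂ) a⁻¹
    rw [show (t * a * t⁻¹)⁻¹ = t * a⁻¹ * t⁻¹ by group]
    exact IsIrr.classFun φ.2 _ _)]
  have h1 : ∑ h : G, (φ : G → ℂ) h⁻¹ * (ψ : G → ℂ) h =
      (Nat.card G : ℂ) * if φ = ψ then 1 else 0 := by
    have h2 : classInner (ψ : G → ℂ) (φ : G → ℂ) = if φ = ψ then 1 else 0 := by
      split_ifs with h
      · rw [h]; exact classInner_self_irr ψ.2
      · exact classInner_irr_ne ψ.2 φ.2 fun e => h (Subtype.ext e).symm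
    rw [classInner, inv_mul_eq_iff_eq_mul₀ (Nat.cast_ne_zero.2 Nat.card_pos.ne')] at h2
    rw [← h2]
    exact Finset.sum_congr rfl fun h _ => by
      rw [IsChar.apply_inv (IsIrr.isCharacter φ.2), mul_comm]
  rw [h1]
  split_ifs with h
  · subst h; ring
  · simp

theorem conv_ev (φ ψ : IrrCharacter G) (r b : MonoidAlgebra ℂ G) :
    ∑ h : G, ev (φ : G → ℂ) (r * sgl h) * ev (ψ : G → ℂ) (sgl h⁻¹ * b) =
      if φ = ψ then (Nat.card G : ℂ) / (φ : G → ℂ) 1 * ev (φ : G → ℂ) (r * b) else 0 := by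
  classical
  simp only [ev_mul_sgl, ev_sgl_mul, Finset.sum_mul, Finset.mul_sum]
  rw [Finset.sum_comm]
  rw [Finset.sum_congr rfl fun g _ => Finset.sum_comm]
  have h1 : ∀ g k : G, ∑ h : G, r.coeff g * (φ : G → ℂ) (g * h) * (b.coeff k * (ψ : G → ℂ) (h⁻¹ * k)) =
      r.coeff g * b.coeff k * if φ = ψ then (Nat.card G : ℂ) * (φ : G → ℂ) (g * k) / (φ : G → ℂ) 1 else 0 := by
    intro g k
    rw [← conv_orth φ ψ g k, Finset.mul_sum]
    exact Finset.sum_congr rfl fun h _ => by ring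
  simp only [h1]
  split_ifs with h
  · rw [show r * b = ∑ g : G, r.coeff g • (sgl g * b) by
      conv_lhs => rw [← sum_single r, Finset.sum_mul]
      exact Finset.sum_congr rfl fun g _ => smul_mul_assoc _ _ _]
    rw [ev_sum_left, Finset.mul_sum, Finset.sum_comm]
    refine Finset.sum_congr rfl fun g _ => ?_
    rw [ev_smul_left, ev_sgl_mul, Finset.mul_sum, Finset.mul_sum]
    exact Finset.sum_congr rfl fun k _ => by ring
  · simp

/-- The element with the coefficients mapped. -/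
noncomputable def mapA (f : ℂ ≃+* ℂ) (r : MonoidAlgebra ℂ G) : MonoidAlgebra ℂ G :=
  ∑ g : G, f (r.coeff g) • sgl g

theorem σ_ev_mul (j : (ZMod p)ˣ) (r : MonoidAlgebra ℂ G) (h : G) :
    S.σ j (ev (χ : G → ℂ) (r * sgl h)) = ev (tw S j χ : G → ℂ) (mapA (S.σ j) r * sgl h) := by
  rw [mapA, Finset.sum_mul, ev_sum_left, ev_mul_sgl, map_sum]
  refine Finset.sum_congr rfl fun g _ => ?_
  rw [smul_mul_assoc, ev_smul_left, MonoidAlgebra.single_mul_single, one_mul, ev_sgl, map_mul]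
  rfl

open Classical in
/-- A functional with values in the maximal ideal of the fixed ring comes from an integral element
which vanishes outside the orbit of the character. -/
theorem trick (hS : Cfg S χ) {r : MonoidAlgebra ℂ G}
    (hr : ∀ h : G, S.Un (ev (χ : G → ℂ) (r * sgl h)) ∧ Fix S χ (ev (χ : G → ℂ) (r * sgl h)) ∧
      MemLocalIdeal M (ev (χ : G → ℂ) (r * sgl h))) :
    ∃ W, AlgRing M W ∧ (∀ b, ev (χ : G → ℂ) (W * b) = ev (χ : G → ℂ) (r * b)) ∧
      (∀ ψ : IrrCharacter G, (∀ j, tw S j χ ≠ ψ) → ∀ b, ev (ψ : G → ℂ) (W * b) = 0) ∧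
      (Co S r → ∀ (j : (ZMod p)ˣ) b,
        ev (tw S j χ : G → ℂ) (W * b) = ev (tw S j χ : G → ℂ) (r * b)) := by
  classical
  have hM := S.hM
  set F := Finset.univ.filter fun j : (ZMod p)ˣ => tw S j χ = χ with hF
  have hFne : 0 < F.card :=
    Finset.card_pos.2 ⟨1, Finset.mem_filter.2 ⟨Finset.mem_univ _, tw_one hS.dvd⟩⟩
  have hFp : ¬ p ∣ F.card := fun h => by
    have h1 := (Finset.card_le_univ F).trans_eq (ZMod.card_units p)
    have := Nat.le_of_dvd hFne h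
    have := hp.out.two_le
    omega
  obtain ⟨m, hm, hmp⟩ : ∃ m, Nat.card G = p * m ∧ ¬ p ∣ m :=
    ⟨Nat.card G / p ^ (Nat.card G).factorization p,
      by conv_lhs => rw [← Nat.ordProj_mul_ordCompl_eq_self (Nat.card G) p, hS.fac, pow_one]
         rw [hS.fac, pow_one],
      Nat.not_dvd_ordCompl hp.out Nat.card_pos.ne'⟩
  set q : G → ℂ := fun h => ev (χ : G → ℂ) (r * sgl h) with hq
  set d : ℂ := (χ : G → ℂ) 1 / ((F.card : ℂ) * (Nat.card G : ℂ)) with hd
  set W : MonoidAlgebra ℂ G := ∑ h : G, (d * S.tr (q h)) • sgl h⁻¹ with hW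
  have hdW : ∀ (ψ : IrrCharacter G) b, ev (ψ : G → ℂ) (W * b) =
      d * ∑ j : (ZMod p)ˣ, if tw S j χ = ψ then
        (Nat.card G : ℂ) / (ψ : G → ℂ) 1 * ev (ψ : G → ℂ) (mapA (S.σ j) r * b) else 0 := by
    intro ψ b
    have h2 : ev (ψ : G → ℂ) (W * b) =
        ∑ j : (ZMod p)ˣ, ∑ h : G, d * (S.σ j (q h) * ev (ψ : G → ℂ) (sgl h⁻¹ * b)) := by
      rw [hW, Finset.sum_mul, ev_sum_left, Finset.sum_comm]
      refine Finset.sum_congr rfl fun h _ => ?_
      rw [smul_mul_assoc, ev_smul_left, Sys.tr, Finset.mul_sum, Finset.sum_mul]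
      exact Finset.sum_congr rfl fun j _ => mul_assoc _ _ _
    rw [h2, Finset.mul_sum]
    refine Finset.sum_congr rfl fun j _ => ?_
    rw [← Finset.mul_sum, Finset.sum_congr rfl fun h _ => by rw [hq, σ_ev_mul j r h], conv_ev]
    congr 1
    split_ifs with h
    · rw [h]
    · rfl
  have hdeg : ∀ j, (tw S j χ : G → ℂ) 1 = (χ : G → ℂ) 1 := fun j => by
    show S.σ j ((χ : G → ℂ) 1) = _
    rw [charDeg_spec', map_natCast]
  have hχ1 : (χ : G → ℂ) 1 ≠ 0 := by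
    rw [charDeg_spec']
    exact Nat.cast_ne_zero.2 fun h => hS.deg (h ▸ dvd_zero p)
  have hG : (Nat.card G : ℂ) ≠ 0 := Nat.cast_ne_zero.2 Nat.card_pos.ne'
  have hscal : ((F.card : ℂ)) * (d * ((Nat.card G : ℂ) / (χ : G → ℂ) 1)) = 1 := by
    have : (F.card : ℂ) ≠ 0 := Nat.cast_ne_zero.2 hFne.ne'
    rw [hd]
    field_simp
  refine ⟨W, AlgRing.sum hM fun h _ => AlgRing.smul hM ?_ (AlgRing.single hM _), fun b => ?_,
    fun ψ hψ b => ?_, fun hco j₀ b => ?_⟩
  · obtain ⟨c, hc, e⟩ := S.tr_div_p (hr h).1 (hr h).2.2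
    rw [e, hd, charDeg_spec', hm,
      show (charDegree (χ : G → ℂ) : ℂ) / ((F.card : ℂ) * ((p * m : ℕ) : ℂ)) * ((p : ℂ) * c) =
        (charDegree (χ : G → ℂ) : ℂ) * (F.card : ℂ)⁻¹ * (m : ℂ)⁻¹ * c by
        have : (p : ℂ) ≠ 0 := Nat.cast_ne_zero.2 hp.out.ne_zero
        push_cast
        field_simp]
    exact ring_mul hM (ring_mul hM (ring_mul hM (ring_natCast hM _) (ring_inv_natCast hM hFp))
      (ring_inv_natCast hM hmp)) (Sys.Un.ring S (Sys.Un0.un S hc))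
  · rw [hdW]
    rw [Finset.sum_congr rfl (g := fun j => if tw S j χ = χ then
      (Nat.card G : ℂ) / (χ : G → ℂ) 1 * ev (χ : G → ℂ) (r * b) else 0) fun j _ => ?_,
      ← Finset.sum_filter, Finset.sum_const, nsmul_eq_mul, ← hF]
    · linear_combination (ev (χ : G → ℂ) (r * b)) * hscal
    · split_ifs with h
      · congr 1
        rw [← sum_single b, Finset.mul_sum, Finset.mul_sum, ev_sum_left, ev_sum_left]
        refine Finset.sum_congr rfl fun g _ => ?_
        rw [mul_smul_comm, mul_smul_comm, ev_smul_left, ev_smul_left]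
        congr 1
        have h3 := σ_ev_mul (χ := χ) (S := S) j r g
        rw [h] at h3
        rw [← h3, (hr g).2.1 j h]
      · rfl
  · rw [hdW, Finset.sum_eq_zero fun j _ => if_neg (hψ j), mul_zero]
  · rw [hdW]
    have hmap : ∀ j, mapA (S.σ j) r = r := fun j => by
      rw [mapA]
      conv_rhs => rw [← sum_single r]
      exact Finset.sum_congr rfl fun g _ => by rw [S.σ_U0 j (hco g)]
    simp only [hmap, hdeg]
    rw [← Finset.sum_filter, Finset.sum_const, nsmul_eq_mul]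
    have hcardF : (Finset.univ.filter fun j => tw S j χ = tw S j₀ χ).card = F.card := by
      refine Finset.card_equiv (Equiv.mulLeft j₀⁻¹) fun j => ?_
      simp only [hF, Finset.mem_filter, Finset.mem_univ, true_and, Equiv.coe_mulLeft]
      constructor
      · intro h
        rw [← tw_comp hS.dvd, h, tw_comp hS.dvd, inv_mul_cancel, tw_one hS.dvd]
      · intro h
        have := congrArg (tw S j₀) h
        rwa [tw_comp hS.dvd, mul_inv_cancel_left] at this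
    rw [hcardF]
    linear_combination (ev (tw S j₀ χ : G → ℂ) (r * b)) * hscal

/-! ### The representation -/

/-- A representation of the group algebra affording the character. -/
structure Afford (χ : IrrCharacter G) (n : ℕ) (Φ : MonoidAlgebra ℂ G →ₐ[ℂ] Matrix (Fin n) (Fin n) ℂ) :
    Prop where
  trace : ∀ a, (Φ a).trace = ev (χ : G → ℂ) a
  zero : ∀ a, (∀ h : G, ev (χ : G → ℂ) (a * sgl h) = 0) → Φ a = 0

theorem exists_afford (χ : IrrCharacter G) :
    ∃ (n : ℕ) (Φ : MonoidAlgebra ℂ G →ₐ[ℂ] Matrix (Fin n) (Fin n) ℂ), Afford χ n Φ := by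
  classical
  obtain ⟨n, ρ, hρ, he⟩ := χ.2
  let φ : G →* Matrix (Fin n) (Fin n) ℂ :=
    (Matrix.toLinAlgEquiv' (R := ℂ) (n := Fin n)).symm.toAlgHom.toMonoidHom.comp ρ
  let Φ := MonoidAlgebra.lift ℂ (Matrix (Fin n) (Fin n) ℂ) G φ
  have hΦ : ∀ g, Φ (sgl g) = φ g := fun g => by simp [Φ]
  have htr : ∀ g, (φ g).trace = (χ : G → ℂ) g := fun g => by
    rw [← he]
    show (LinearMap.toMatrix' (ρ g)).trace = LinearMap.trace ℂ _ (ρ g)
    rw [LinearMap.trace_eq_matrix_trace ℂ (Pi.basisFun ℂ (Fin n))]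
    rfl
  have h1 : ∀ a, (Φ a).trace = ev (χ : G → ℂ) a := fun a => by
    conv_lhs => rw [← sum_single a]
    rw [map_sum, Matrix.trace_sum, ev]
    exact Finset.sum_congr rfl fun g _ => by rw [map_smul, Matrix.trace_smul, hΦ, htr, smul_eq_mul]
  refine ⟨n, Φ, h1, fun a ha => ?_⟩
  haveI := hρ
  have hkey : ∑ k : G, (χ : G → ℂ) k⁻¹ • φ k = ((Nat.card G : ℂ) / (χ : G → ℂ) 1) • 1 := by
    have h2 := sum_smul_rep_scalar ρ (f := fun g => (χ : G → ℂ) g⁻¹) (fun a t => by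
      show (χ : G → ℂ) (t * a * t⁻¹)⁻¹ = (χ : G → ℂ) a⁻¹
      rw [show (t * a * t⁻¹)⁻¹ = t * a⁻¹ * t⁻¹ by group]
      exact IsIrr.classFun χ.2 _ _)
    have h3 : (∑ g : G, (χ : G → ℂ) g⁻¹ * ρ.character g) / (Module.finrank ℂ (Fin n → ℂ) : ℂ) =
        (Nat.card G : ℂ) / (χ : G → ℂ) 1 := by
      rw [show (Module.finrank ℂ (Fin n → ℂ) : ℂ) = (χ : G → ℂ) 1 by rw [← he, Representation.char_one]]
      congr 1
      have h4 := conv_orth χ χ 1 1
      simp only [one_mul, mul_one, if_true] at h4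
      rw [mul_div_assoc, div_self (IsIrr.one_ne_zero χ.2), mul_one] at h4
      rw [← h4]
      exact Finset.sum_congr rfl fun g _ => by
        rw [mul_comm]
        congr 1
        rw [← he]
    rw [h3] at h2
    have h5 := congrArg (Matrix.toLinAlgEquiv' (R := ℂ) (n := Fin n)).symm h2
    rw [map_sum, map_smul, ← Module.End.one_eq_id, map_one] at h5
    rw [← h5]
    exact Finset.sum_congr rfl fun k _ => by rw [map_smul]; rfl
  have h6 : ∑ h : G, ev (χ : G → ℂ) (a * sgl h) • φ h⁻¹ =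
      ((Nat.card G : ℂ) / (χ : G → ℂ) 1) • Φ a := by
    have h7 : ∀ g : G, ∑ h : G, (χ : G → ℂ) (g * h) • φ h⁻¹ =
        ((Nat.card G : ℂ) / (χ : G → ℂ) 1) • φ g := by
      intro g
      rw [← one_mul (φ g), ← smul_mul_assoc, ← hkey, Finset.sum_mul]
      refine Fintype.sum_equiv ((Equiv.mulLeft g).trans (Equiv.inv G)) _ _ fun h => ?_
      simp [← map_mul]
    conv_rhs => rw [← sum_single a, map_sum, Finset.smul_sum]
    simp only [ev_mul_sgl, Finset.sum_smul]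
    rw [Finset.sum_comm]
    refine Finset.sum_congr rfl fun g _ => ?_
    rw [map_smul, hΦ, smul_comm, ← h7 g, Finset.smul_sum]
    exact Finset.sum_congr rfl fun h _ => mul_smul _ _ _
  simp only [ha, zero_smul, Finset.sum_const_zero] at h6
  exact ((smul_eq_zero.1 h6.symm).resolve_left
    (div_ne_zero (Nat.cast_ne_zero.2 Nat.card_pos.ne') (IsIrr.one_ne_zero χ.2)))

theorem Afford.eq {n : ℕ} {Φ : MonoidAlgebra ℂ G →ₐ[ℂ] Matrix (Fin n) (Fin n) ℂ} (A : Afford χ n Φ)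
    {a b : MonoidAlgebra ℂ G} (h : ∀ g : G, ev (χ : G → ℂ) (a * sgl g) = ev (χ : G → ℂ) (b * sgl g)) :
    Φ a = Φ b := by
  rw [← sub_eq_zero, ← map_sub]
  exact A.zero _ fun g => by rw [sub_mul, ev_sub, h g, sub_self]

end Cfsg.Agent.Char.Stem
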